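import Cfsg.Agent.Lib.Helper31.BG11Ifc
import Cfsg.Agent.Lib.Helper31.BG11a
import Cfsg.Agent.Lib.Helper72.HH5
import Cfsg.Agent.Lib.Helper72.CoprimeC
import Cfsg.Agent.S3769
import Cfsg.Agent.S1450

set_option autoImplicit false

namespace Cfsg.Agent.Lib.Helper68.BG11P7s

open Subgroup Cfsg
open Cfsg.Agent.Lib
open Cfsg.Agent.Lib.Helper24 Cfsg.Agent.Lib.Helper34 Cfsg.Agent.Lib.Helper31.BG11

universe u

variable {G : Type u} [Group G] [Finite G]

/-- The image `K_r` of `O_{r'}(M)` in `G`, for `M` solvable of odd order and `r`-rank at most 2. -/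
theorem exists_core (hG : IsMinSimpleOddOrder G) {M : Subgroup G} (hM : M ≠ ⊤) (r : ℕ)
    [Fact r.Prime] (hr : PRankLE r 2 M) (hd : r ∣ Nat.card M) :
    ∃ K : Subgroup G, K ≤ M ∧ M ≤ normalizer (K : Set G) ∧ (Nat.card K).Coprime r ∧
      ∀ s : ℕ, s.Prime → r < s → ¬ s ∣ K.relIndex M := by
  haveI : Group.IsSolvable M := MS_solvable hG hM
  have hodd := MS_odd hG M
  have h := (Cfsg.Agent.S1450.result (G := M) hodd r hd hr).1
  refine ⟨(pPrimeCore r ↥M).map M.subtype, map_subtype_le _, ?_, ?_, ?_⟩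
  · exact Helper22.BG.le_normalizer_map_subtype _ inferInstance
  · rw [card_map_of_injective M.subtype_injective]
    exact Lead.card_pPrimeCore_coprime r
  · intro s hs hrs hdvd
    have : ((pPrimeCore r ↥M).map M.subtype).relIndex M = (pPrimeCore r ↥M).index := by
      rw [relIndex, subgroupOf, comap_map_eq_self_of_injective M.subtype_injective]
    rw [this] at hdvd
    exact absurd (h s hs hdvd) (by omega)

theorem dvd_card_of_ne_bot {M A : Subgroup G} {p : ℕ} [hp : Fact p.Prime] (hA : IsPGroup p A)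
    (hAM : A ≤ M) (h1 : A ≠ ⊥) : p ∣ Nat.card M := by
  obtain ⟨k, hk⟩ := hA.exists_card_eq
  have hk0 : k ≠ 0 := by
    rintro rfl
    rw [pow_zero] at hk
    exact h1 (card_eq_one.1 hk)
  exact ((dvd_pow_self p hk0).trans (hk ▸ dvd_rfl)).trans (card_dvd_of_le hAM)

/-- (P7s) existence of an `A`-invariant Sylow `q`-subgroup of `M`. -/
theorem exists_inv_sylow_of_normal (hG : IsMinSimpleOddOrder G) {M A W : Subgroup G} {p q : ℕ}
    [Fact p.Prime] [Fact q.Prime] (hpq : p ≠ q) (hM : M ≠ ⊤)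
    (hrp : PRankLE p 2 M) (hrq : PRankLE q 2 M) (hA : IsPGroup p A) (hAM : A ≤ M)
    (hW : IsPGroup q W) (hWM : W ≤ M) (hMW : M ≤ normalizer (W : Set G))
    (hAW : ¬ A ≤ centralizer (W : Set G)) :
    ∃ S : Subgroup G, IsSylowIn q S M ∧ A ≤ normalizer (S : Set G) := by
  have hA1 : A ≠ ⊥ := by
    rintro rfl
    exact hAW bot_le
  have hW1 : W ≠ ⊥ := by
    rintro rfl
    apply hAW
    intro a _
    rw [mem_centralizer_iff]
    intro w hw
    have : w = 1 := by simpa using hw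
    rw [this]; simp
  have hpM := dvd_card_of_ne_bot hA hAM hA1
  have hqM := dvd_card_of_ne_bot hW hWM hW1
  rcases lt_or_gt_of_ne hpq with hlt | hlt
  · obtain ⟨K, hKM, hMK, hKc, hK⟩ := exists_core hG hM p hrp hpM
    have hpK : ¬ p ∣ Nat.card K := by
      intro hd
      have := Nat.eq_one_of_dvd_coprimes hKc hd dvd_rfl
      exact (Fact.out : p.Prime).one_lt.ne' this
    obtain ⟨Q, hQ, hAQ⟩ := exists_inv_sylow hA hpK (hAM.trans hMK) q
    exact ⟨Q, isSylowIn_of_normal_hall hKM (hK q Fact.out hlt) hQ, hAQ⟩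
  · exfalso
    obtain ⟨K, hKM, hMK, hKc, hK⟩ := exists_core hG hM q hrq hqM
    have h1 : A ≤ K := le_of_normal_of_not_dvd hKM hMK (hK p Fact.out hlt) hAM hA
    exact hAW (h1.trans (le_centralizer_of_normal_coprime hKM hWM hMK hMW hKc hW))

end Cfsg.Agent.Lib.Helper68.BG11P7s
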