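/-
helper68: reduction (Part A) of BG 3.6 (statement S1444) to the core theorem `bg36_core` of helper24.
This file: steps A3 and A4 and the induction.
-/
import Cfsg.Agent.Lib.Helper68.BG36a
import Cfsg.Agent.Lib.Helper24.U95b
import Cfsg.Agent.Lib.Helper48.FF1

set_option autoImplicit false
set_option linter.unusedVariables false
set_option linter.unusedSectionVars false
set_option linter.style.haveILetI false

namespace Cfsg.Agent.Lib.Helper68.BG36

open Subgroup Cfsg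
open scoped commutatorElement

universe u

variable {G : Type*} [Group G]

theorem coprime_of_isPGroup_of_coprime [Finite G] {p : ℕ} [Fact p.Prime] {A B : Subgroup G} (hA : IsPGroup p A)
    (hB : (Nat.card B).Coprime p) : (Nat.card A).Coprime (Nat.card B) := by
  obtain ⟨n, hn⟩ := hA.exists_card_eq
  rw [hn]
  exact (Nat.Coprime.pow_right n hB).symm

theorem inf_eq_bot_of_isPGroup_of_coprime [Finite G] {p : ℕ} [Fact p.Prime] {A B : Subgroup G} (hA : IsPGroup p A)
    (hB : (Nat.card B).Coprime p) : A ⊓ B = ⊥ :=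
  inf_eq_bot_of_coprime (coprime_of_isPGroup_of_coprime hA hB)

/-- A3: `O_{p'}` of the image of `L` modulo `Φ(T)` is trivial. -/
theorem pPrimeCore_map_eq_bot [Finite G] {p : ℕ} [hp : Fact p.Prime] {H T L : Subgroup G}
    [T.Normal] [L.Normal] (hT : IsPGroup p T) (hTH : T ≤ H) (hLH : L ≤ H)
    (hCT : H ⊓ centralizer (T : Set G) ≤ T) :
    pPrimeCore p ↥(L.map (QuotientGroup.mk' (Frat T))) = ⊥ := by
  set f := QuotientGroup.mk' (Frat T) with hf
  have hfs : Function.Surjective f := QuotientGroup.mk'_surjective _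
  have hker : f.ker = Frat T := QuotientGroup.ker_mk' _
  haveI : (L.map f).Normal := Subgroup.Normal.map inferInstance f hfs
  by_contra hne
  set Kb : Subgroup (G ⧸ Frat T) := (pPrimeCore p ↥(L.map f)).map (L.map f).subtype with hKb
  haveI : Kb.Normal := Cfsg.Agent.Lib.Lead.normal_map_subtype_of_characteristic (L.map f) _
  have hKbcop : (Nat.card Kb).Coprime p :=
    Nat.Coprime.of_dvd_left (Subgroup.card_map_dvd _ _) (Cfsg.Agent.Lib.Lead.card_pPrimeCore_coprime p)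
  have hKbne : Kb ≠ ⊥ := fun h => hne ((map_eq_bot_iff_of_injective _ (L.map f).subtype_injective).1 h)
  have hKbL : Kb ≤ L.map f := map_subtype_le _
  have hcard1 : Nat.card Kb ≠ 1 := fun h => hKbne (Subgroup.card_eq_one.1 h)
  obtain ⟨q, hq, hqd⟩ := Nat.exists_prime_and_dvd hcard1
  haveI : Fact q.Prime := ⟨hq⟩
  have hqp : q ≠ p := by
    rintro rfl
    exact (Nat.Prime.coprime_iff_not_dvd hq).1 hKbcop.symm hqd
  have hcK : Nat.card (Kb.comap f) = Nat.card (Frat T) * Nat.card Kb :=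
    Cfsg.Agent.Lib.Lead.card_comap_mk' _ _
  obtain ⟨⟨x, hxK⟩, hx⟩ := exists_prime_orderOf_dvd_card' (G := ↥(Kb.comap f)) q
    (by rw [hcK]; exact hqd.mul_left _)
  have hxo : orderOf x = q := by
    rw [← hx]; exact (Subgroup.orderOf_mk x hxK).symm
  have hAq : IsPGroup q (zpowers x) :=
    IsPGroup.of_card (n := 1) (by rw [pow_one, Nat.card_zpowers, hxo])
  have hAK : zpowers x ≤ Kb.comap f := zpowers_le.2 hxK
  have hTK : T.map f ⊓ Kb = ⊥ := inf_eq_bot_of_isPGroup_of_coprime (hT.map f) hKbcop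
  have hcen : T ≤ centralizer ((zpowers x : Subgroup G) : Set G) := by
    apply burnside_amb hqp T hT (zpowers x) hAq
    intro g hg a ha
    rw [← hker, MonoidHom.mem_ker, ← mem_bot, ← hTK]
    refine mem_inf.2 ⟨mem_map_of_mem f ?_, ?_⟩
    · exact mul_mem (inv_mem hg) (Subgroup.Normal.conj_mem inferInstance g hg a)
    · have haK : a ∈ Kb.comap f := hAK ha
      have e : g⁻¹ * (a * g * a⁻¹) = (g⁻¹ * a * g⁻¹⁻¹) * a⁻¹ := by group
      have : g⁻¹ * (a * g * a⁻¹) ∈ Kb.comap f := by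
        rw [e]
        exact mul_mem (Subgroup.Normal.conj_mem inferInstance a haK g⁻¹) (inv_mem haK)
      exact this
  have hxH : x ∈ H := by
    obtain ⟨l, hl, hlx⟩ := hKbL hxK
    have h1 : l⁻¹ * x ∈ f.ker := by
      rw [MonoidHom.mem_ker, map_mul, map_inv, hlx, inv_mul_cancel]
    rw [hker] at h1
    have h2 : x = l * (l⁻¹ * x) := by group
    rw [h2]
    exact mul_mem (hLH hl) (hTH (Frat_le T h1))
  have hxT : x ∈ T := hCT (mem_inf.2 ⟨hxH, le_centralizer_iff.1 hcen (mem_zpowers x)⟩)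
  obtain ⟨k, hk⟩ := hT ⟨x, hxT⟩
  have hk' : x ^ p ^ k = 1 := congrArg Subtype.val hk
  have h3 : q ∣ p ^ k := hxo ▸ orderOf_dvd_of_pow_eq_one hk'
  exact hqp ((Nat.prime_dvd_prime_iff_eq hq hp.out).1 (hq.dvd_of_dvd_pow h3))

/-- A4a: the subgroup `F` with `F/V = O_{p'}(H/V)`, `V = O_p(H)`. -/
theorem exists_F [Finite G] [Group.IsSolvable G] {p : ℕ} [hp : Fact p.Prime] (H : Subgroup G)
    [H.Normal] :
    ∃ F : Subgroup G, F.Normal ∧ pCore p G ⊓ H ≤ F ∧ F ≤ H ∧
      ((pCore p G ⊓ H : Subgroup G).relIndex F).Coprime p ∧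
      ∀ w ∈ H, (∀ y ∈ F, ⁅w, y⁆ ∈ pCore p G ⊓ H) → w ∈ F := by
  set V : Subgroup G := pCore p G ⊓ H with hV
  have hVp : IsPGroup p V := (Cfsg.Agent.Lib.Lead.pCore_isPGroup p G).to_le inf_le_left
  set f := QuotientGroup.mk' V with hf
  have hfs : Function.Surjective f := QuotientGroup.mk'_surjective _
  have hker : f.ker = V := QuotientGroup.ker_mk' _
  have hkerH : f.ker ≤ H := by rw [hker]; exact inf_le_right
  haveI : (H.map f).Normal := Subgroup.Normal.map inferInstance f hfs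
  have hcm : (H.map f).comap f = H := comap_map_eq_self hkerH
  have hO : pCore p (G ⧸ V) ⊓ H.map f = ⊥ := by
    have h1 : (pCore p (G ⧸ V) ⊓ H.map f).comap f ≤ V := by
      apply le_inf
      · apply Cfsg.Agent.Lib.Lead.le_pCore inferInstance
        apply ((Cfsg.Agent.Lib.Lead.pCore_isPGroup p (G ⧸ V)).to_le inf_le_left).comap_of_ker_isPGroup
        rw [hker]; exact hVp
      · calc (pCore p (G ⧸ V) ⊓ H.map f).comap f ≤ (H.map f).comap f := comap_mono inf_le_right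
          _ = H := hcm
    rw [← map_comap_eq_self_of_surjective hfs (pCore p (G ⧸ V) ⊓ H.map f), eq_bot_iff]
    calc ((pCore p (G ⧸ V) ⊓ H.map f).comap f).map f ≤ V.map f := map_mono h1
      _ = ⊥ := by rw [hf]; exact QuotientGroup.map_mk'_self V
  have hCF := hh'_amb (H.map f) p hO
  refine ⟨(pPrimeCore p (G ⧸ V) ⊓ H.map f).comap f, inferInstance, ?_, ?_, ?_, ?_⟩
  · calc V = f.ker := hker.symm
      _ ≤ _ := MonoidHom.ker_le_comap _ _
  · calc (pPrimeCore p (G ⧸ V) ⊓ H.map f).comap f ≤ (H.map f).comap f := comap_mono inf_le_right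
      _ = H := hcm
  · rw [hf, Cfsg.Agent.Lib.Helper63.relIndex_comap_mk']
    exact Nat.Coprime.of_dvd_left (Subgroup.card_dvd_of_le inf_le_left)
      (Cfsg.Agent.Lib.Lead.card_pPrimeCore_coprime p)
  · intro w hw hwy
    apply hCF
    refine mem_inf.2 ⟨mem_map_of_mem f hw, ?_⟩
    rw [mem_centralizer_iff]
    intro yb hyb
    obtain ⟨y, rfl⟩ := hfs yb
    have h1 : ⁅w, y⁆ ∈ f.ker := by rw [hker]; exact hwy y hyb
    rw [MonoidHom.mem_ker, map_commutatorElement, commutatorElement_eq_one_iff_mul_comm] at h1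
    exact h1.symm

/-! ### small general lemmas -/

theorem hall_arith {p a b c d n : ℕ} (hp : p.Prime) (hn : n ≠ 0) (h1 : a * b = n) (h2 : c * d = n)
    (ha : ∃ i, a = p ^ i) (hb : ¬ p ∣ b) (hc : c.Coprime p)
    (hd : ∀ q, q.Prime → q ≠ p → ¬ q ∣ d) : c * a = n := by
  obtain ⟨i, rfl⟩ := ha
  have hd0 : d ≠ 0 := by rintro rfl; exact hn (by rw [← h2, mul_zero])
  have hd' : d = p ^ d.primeFactorsList.length :=
    Nat.eq_prime_pow_of_unique_prime_dvd hd0 (fun {q} hq hqd => by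
      by_contra hne
      exact hd q hq hne hqd)
  set j := d.primeFactorsList.length
  have hbp : (p ^ j).Coprime b := Nat.Coprime.pow_left j ((Nat.Prime.coprime_iff_not_dvd hp).2 hb)
  have hcp : (p ^ i).Coprime c := Nat.Coprime.pow_left i hc.symm
  have e1 : p ^ i ∣ p ^ j := by
    apply hcp.dvd_of_dvd_mul_left
    rw [← hd', h2, ← h1]; exact dvd_mul_right _ _
  have e2 : p ^ j ∣ p ^ i := by
    apply hbp.dvd_of_dvd_mul_right
    rw [h1, ← h2, hd']; exact dvd_mul_left _ _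
  rw [Nat.dvd_antisymm e1 e2, ← hd', h2]

theorem card_mul_relIndex_of_le {P K : Subgroup G} (h : P ≤ K) :
    Nat.card P * P.relIndex K = Nat.card K := by
  have := relIndex_mul_relIndex ⊥ P K bot_le h
  rwa [relIndex_bot_left, relIndex_bot_left] at this

/-- A Sylow `p`-subgroup and a Hall `p'`-subgroup factorize the group. -/
theorem exists_mul_of_hall [Finite G] {p : ℕ} [hp : Fact p.Prime] {K Y P : Subgroup G} (hY : Y ≤ K)
    (hP : P ≤ K) (hPp : IsPGroup p P) (hPi : ¬ p ∣ P.relIndex K) (hYp : (Nat.card Y).Coprime p)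
    (hYi : ∀ q, q.Prime → q ≠ p → ¬ q ∣ Y.relIndex K) :
    ∀ n ∈ K, ∃ y ∈ Y, ∃ u ∈ P, n = y * u := by
  have hcard : Nat.card Y * Nat.card P = Nat.card K :=
    hall_arith hp.out Nat.card_pos.ne' (card_mul_relIndex_of_le hP)
      (card_mul_relIndex_of_le hY) hPp.exists_card_eq hPi hYp hYi
  have hc : IsComplement' (Y.subgroupOf K) (P.subgroupOf K) := by
    apply isComplement'_of_coprime
    · rw [Nat.card_congr (subgroupOfEquivOfLe hY).toEquiv, Nat.card_congr (subgroupOfEquivOfLe hP).toEquiv]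
      exact hcard
    · rw [Nat.card_congr (subgroupOfEquivOfLe hY).toEquiv, Nat.card_congr (subgroupOfEquivOfLe hP).toEquiv]
      exact (coprime_of_isPGroup_of_coprime hPp hYp).symm
  intro n hn
  obtain ⟨⟨⟨y, hy⟩, ⟨u, hu⟩⟩, hyu, -⟩ := (isComplement_iff_existsUnique.1 hc) ⟨n, hn⟩
  exact ⟨y.1, hy, u.1, hu, (congrArg Subtype.val hyu).symm⟩

theorem isCyclic_of_isPGroup_of_le_isZGroup [Finite G] {p : ℕ} [Fact p.Prime] {Z D : Subgroup G}
    (hZ : IsZGroup ↥Z) (hD : IsPGroup p D) (hDZ : D ≤ Z) : IsCyclic ↥D := by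
  have h1 : IsPGroup p (D.subgroupOf Z) := hD.comap_subtype
  obtain ⟨S, hS⟩ := h1.exists_le_sylow
  haveI : IsCyclic ↥(S : Subgroup ↥Z) := IsZGroup.isZGroup p Fact.out S
  haveI : IsCyclic ↥(D.subgroupOf Z) :=
    isCyclic_of_injective (Subgroup.inclusion hS) (Subgroup.inclusion_injective hS)
  exact isCyclic_of_surjective (subgroupOfEquivOfLe hDZ) (subgroupOfEquivOfLe hDZ).surjective

theorem le_of_forall_prime [Finite G] {Y Z : Subgroup G}
    (h : ∀ q : ℕ, q.Prime → ∃ S : Subgroup G, S ≤ Y ∧ S ≤ Z ∧ ¬ q ∣ S.relIndex Y) : Y ≤ Z := by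
  have h1 : (Y ⊓ Z).relIndex Y = 1 := by
    by_contra hne
    obtain ⟨q, hq, hdvd⟩ := Nat.exists_prime_and_dvd hne
    obtain ⟨S, hSY, hSZ, hS⟩ := h q hq
    apply hS
    rw [← relIndex_mul_relIndex S (Y ⊓ Z) Y (le_inf hSY hSZ) inf_le_left]
    exact hdvd.mul_left _
  exact (relIndex_eq_one.mp h1).trans inf_le_right

theorem commutator_mul_left (a b s : G) : ⁅a * b, s⁆ = a * ⁅b, s⁆ * a⁻¹ * ⁅a, s⁆ := by
  simp only [commutatorElement_def]; group

theorem commutator_mul_right (w a b : G) : ⁅w, a * b⁆ = ⁅w, a⁆ * (a * ⁅w, b⁆ * a⁻¹) := by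
  simp only [commutatorElement_def]; group

/-- The statement of the core theorem (`bg36_core` of helper24), for groups in `Type u`. -/
def Core : Prop :=
  ∀ (X : Type u) [Group X] [Finite X] [Group.IsSolvable X], Odd (Nat.card X) →
    ∀ (p q r : ℕ), p.Prime → q.Prime → r.Prime → p ≠ q → p ≠ r → q ≠ r →
    ∀ (V Q P R₀ : Subgroup X), Cfsg.IsElementaryAbelian p V → IsPGroup q Q → IsPGroup p P →
      Nat.card R₀ = r → Q ≤ normalizer (V : Set X) → P ≤ normalizer (V : Set X) →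
      R₀ ≤ normalizer (V : Set X) → P ≤ normalizer (Q : Set X) → R₀ ≤ normalizer (Q : Set X) →
      R₀ ≤ normalizer (P : Set X) → Q ⊓ centralizer (V : Set X) = ⊥ → P ⊓ ⁅V, Q⁆ = ⊥ →
      IsCyclic ↥((V ⊔ P) ⊓ centralizer (R₀ : Set X)) → IsCyclic ↥(Q ⊓ centralizer (R₀ : Set X)) →
      Q ≤ centralizer (R₀ : Set X) ∨ Q ≤ centralizer (P : Set X)

/-- A4, main step: `[P₀, R]` centralizes `Y₁`. -/
theorem sylow_step (hB : Core.{u}) {G : Type u} [Group G] [Finite G] [Group.IsSolvable G]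
    (hodd : Odd (Nat.card G)) {p : ℕ} [hp : Fact p.Prime] {H R R₀ : Subgroup G} (h : Hyp H R R₀)
    {V Y1 P0 : Subgroup G} [V.Normal] (hVe : IsElementaryAbelian p V) (hVH : V ≤ H)
    (hCV : H ⊓ centralizer (V : Set G) ≤ V) (hY1H : Y1 ≤ H) (hY1p : (Nat.card Y1).Coprime p)
    (hRY1 : R ≤ normalizer (Y1 : Set G)) (hP0H : P0 ≤ H) (hP0p : IsPGroup p P0)
    (hP0Y1 : P0 ≤ normalizer (Y1 : Set G)) (hRP0 : R ≤ normalizer (P0 : Set G))
    (hpr : p ≠ Nat.card R₀) :
    Y1 ≤ centralizer ((⁅P0, R⁆ : Subgroup G) : Set G) := by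
  haveI := h.normal
  have hVp : IsPGroup p V := by
    intro x
    exact ⟨1, Subtype.ext (by simpa using hVe.2 x.1 x.2)⟩
  have hWP0 : ⁅P0, R⁆ ≤ P0 := le_normalizer_iff_commutator_le_left.1 hRP0
  apply le_of_forall_prime
  intro q hq
  by_cases hqd : q ∣ Nat.card Y1
  swap
  · exact ⟨⊥, bot_le, bot_le, by rw [relIndex_bot_left]; exact hqd⟩
  haveI : Fact q.Prime := ⟨hq⟩
  have hpq : p ≠ q := by
    rintro rfl
    exact (Nat.Prime.coprime_iff_not_dvd hq).1 hY1p.symm hqd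
  have hqr : q ≠ Nat.card R₀ := by
    intro e
    have h1 : (Nat.card R₀).Coprime (Nat.card Y1) :=
      Nat.Coprime.of_dvd_right (card_dvd_of_le hY1H) h.coprime₀
    rw [← e] at h1
    exact (Nat.Prime.coprime_iff_not_dvd hq).1 h1 hqd
  -- the group `A = P₀ R`
  have hAY1 : P0 ⊔ R ≤ normalizer (Y1 : Set G) := sup_le hP0Y1 hRY1
  have hAcop : (Nat.card (P0 ⊔ R : Subgroup G)).Coprime (Nat.card Y1) := by
    apply Nat.Coprime.of_dvd_left (Cfsg.Agent.Lib.Helper22.card_sup_dvd hRP0)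
    exact Nat.Coprime.mul_left (coprime_of_isPGroup_of_coprime hP0p hY1p)
      (Nat.Coprime.of_dvd_right (card_dvd_of_le hY1H) h.coprime)
  obtain ⟨Q, hQY1, hQq, hQi, hAQ⟩ := Cfsg.Agent.Lib.Helper1.exists_invariant_sylow (P0 ⊔ R) Y1 hAY1
    hAcop (Or.inr inferInstance) q
  refine ⟨Q, hQY1, ?_, hQi⟩
  have hQH : Q ≤ H := hQY1.trans hY1H
  have hQp : (Nat.card Q).Coprime p := Nat.Coprime.of_dvd_left (card_dvd_of_le hQY1) hY1p
  have hVY1 : V ⊓ Y1 = ⊥ := inf_eq_bot_of_isPGroup_of_coprime hVp hY1p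
  have hfaith : Q ⊓ centralizer (V : Set G) = ⊥ := by
    rw [eq_bot_iff]
    calc Q ⊓ centralizer (V : Set G) ≤ V ⊓ Q :=
          le_inf ((inf_le_inf_right _ hQH).trans hCV) inf_le_left
      _ = ⊥ := inf_eq_bot_of_isPGroup_of_coprime hVp hQp
  have hVQ : ⁅V, Q⁆ ≤ V := Subgroup.commutator_le_left V Q
  have hdis : ⁅V, Q⁆ ⊓ centralizer (Q : Set G) = ⊥ := by
    apply Cfsg.Agent.Lib.Helper48.commutator_inf_centralizer_eq_bot hVe.1 le_normalizer_of_normal
    intro v hv hv1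
    have h1 : orderOf v ∣ Nat.card Q := orderOf_dvd_of_pow_eq_one hv1
    have h2 : orderOf v ∣ p := orderOf_dvd_of_pow_eq_one (hVe.2 v hv)
    have h3 : orderOf v = 1 := Nat.eq_one_of_dvd_coprimes hQp h1 h2
    exact orderOf_eq_one_iff.1 h3
  have hPU : P0 ⊓ ⁅V, Q⁆ = ⊥ := by
    rw [eq_bot_iff, ← hdis]
    intro x hx
    obtain ⟨hx1, hx2⟩ := mem_inf.1 hx
    refine mem_inf.2 ⟨hx2, ?_⟩
    rw [mem_centralizer_iff]
    intro y hy
    have hyY : y ∈ Y1 := hQY1 hy
    have h1 : ⁅x, y⁆ ∈ V ⊓ Y1 := by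
      refine mem_inf.2 ⟨?_, ?_⟩
      · rw [commutatorElement_def, mul_assoc, mul_assoc]
        apply mul_mem (hVQ hx2)
        rw [← mul_assoc]
        exact Subgroup.Normal.conj_mem inferInstance _ (inv_mem (hVQ hx2)) y
      · rw [commutatorElement_def]
        exact mul_mem ((mem_normalizer_iff.1 (hP0Y1 hx1) y).1 hyY) (inv_mem hyY)
    rw [hVY1, mem_bot, commutatorElement_eq_one_iff_mul_comm] at h1
    exact h1.symm
  have hVP0p : IsPGroup p (V ⊔ P0 : Subgroup G) :=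
    Cfsg.Agent.Lib.Helper22.isPGroup_sup le_normalizer_of_normal hVp hP0p
  have hZp : IsCyclic ↥((V ⊔ P0) ⊓ centralizer (R₀ : Set G)) :=
    isCyclic_of_isPGroup_of_le_isZGroup h.z (hVP0p.to_le inf_le_left)
      (inf_le_inf_right _ (sup_le hVH hP0H))
  have hZq : IsCyclic ↥(Q ⊓ centralizer (R₀ : Set G)) :=
    isCyclic_of_isPGroup_of_le_isZGroup h.z (hQq.to_le inf_le_left) (inf_le_inf_right _ hQH)
  have hR₀A : R₀ ≤ P0 ⊔ R := h.le.trans le_sup_right
  rcases hB G hodd p q (Nat.card R₀) hp.out hq h.prime hpq hpr hqr V Q P0 R₀ hVe hQq hP0p rfl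
    le_normalizer_of_normal le_normalizer_of_normal le_normalizer_of_normal
    (le_sup_left.trans hAQ) (hR₀A.trans hAQ) (h.le.trans hRP0) hfaith hPU hZp hZq with h1 | h1
  · -- `Q` is cyclic
    have hQe : Q ⊓ centralizer (R₀ : Set G) = Q := inf_eq_left.2 h1
    rw [hQe] at hZq
    obtain ⟨z, hz⟩ := (Subgroup.isCyclic_iff_exists_zpowers_eq_top Q).1 hZq
    have h2 := Cfsg.Agent.Lib.Helper24.commutator_le_centralizer_of_zpowers (H := P0 ⊔ R) (z := z)
      (by rw [hz]; exact hAQ)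
    rw [hz] at h2
    exact le_centralizer_iff.1 ((commutator_mono le_sup_left le_sup_right).trans h2)
  · exact h1.trans (centralizer_le (by exact_mod_cast hWP0))

/-- A4: the case `O_{p'}(H) = 1 = Φ(O_p(H))`. -/
theorem A4 (hB : Core.{u}) {G : Type u} [Group G] [Finite G] [Group.IsSolvable G]
    (hodd : Odd (Nat.card G)) {p : ℕ} [hp : Fact p.Prime] {H R R₀ : Subgroup G} (h : Hyp H R R₀)
    (hpH : p ∣ Nat.card H)
    (hCV : H ⊓ centralizer ((pCore p G ⊓ H : Subgroup G) : Set G) ≤ pCore p G ⊓ H)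
    (hVe : IsElementaryAbelian p (pCore p G ⊓ H : Subgroup G)) : PLengthLE p 1 ↥⁅H, R⁆ := by
  haveI := h.normal
  obtain ⟨F, hFn, hVF, hFH, hFi, hCF⟩ := exists_F (p := p) H
  haveI := hFn
  set V : Subgroup G := pCore p G ⊓ H with hV
  have hVp : IsPGroup p V := (Cfsg.Agent.Lib.Lead.pCore_isPGroup p G).to_le inf_le_left
  have hVH : V ≤ H := inf_le_right
  have hpr : p ≠ Nat.card R₀ := by
    intro e
    have h1 := h.coprime₀
    rw [← e] at h1
    exact (Nat.Prime.coprime_iff_not_dvd hp.out).1 h1 hpH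
  have hRcop : ∀ K : Subgroup G, K ≤ H → (Nat.card R).Coprime (Nat.card K) :=
    fun K hK => Nat.Coprime.of_dvd_right (card_dvd_of_le hK) h.coprime
  -- `Y₁`
  obtain ⟨Y1, ⟨hY1F, hY1π, hY1i⟩, hRY1⟩ := Cfsg.Agent.Lib.Helper24.exists_invariant_piHall
    {q | q ≠ p} R F le_normalizer_of_normal (hRcop F hFH) inferInstance
  have hY1p : (Nat.card Y1).Coprime p :=
    ((Nat.Prime.coprime_iff_not_dvd hp.out).2 (fun hd => hY1π p hp.out hd rfl)).symm
  have hY1H : Y1 ≤ H := hY1F.trans hFH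
  have hFVY : F ≤ V ⊔ Y1 := by
    rw [← relIndex_eq_one]
    by_contra hne
    obtain ⟨q, hq, hqd⟩ := Nat.exists_prime_and_dvd hne
    by_cases hqp : q = p
    · subst hqp
      exact (Nat.Prime.coprime_iff_not_dvd hq).1 hFi.symm
        (hqd.trans (relIndex_dvd_of_le_left F le_sup_left))
    · exact hY1i q hq hqp (hqd.trans (relIndex_dvd_of_le_left F le_sup_right))
  -- Frattini argument
  have hfr : ∀ g ∈ H, ∃ v ∈ V, ∃ n ∈ H ⊓ normalizer (Y1 : Set G), g = v * n := by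
    intro g hg
    have hcop1 : (Nat.card Y1).Coprime (Y1.relIndex F) :=
      Nat.coprime_of_dvd (fun q hq h1 h2 => hY1i q hq (hY1π q hq h1) h2)
    obtain ⟨k, hk, hkg⟩ := Cfsg.Agent.Lib.Helper24.hall_frattini_rel' (K := F) (P := Y1) inferInstance
      hY1F hcop1 (g := g) (le_normalizer_of_normal (H := F) (K := ⊤) (mem_top g))
    obtain ⟨v, hv, y, hy, hvy⟩ := mem_sup_of_normal_left.1 (hFVY (inv_mem hk))
    refine ⟨v, hv, y * (k * g), mem_inf.2 ⟨mul_mem (hY1H hy) (mul_mem (hFH hk) hg),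
      mul_mem (le_normalizer hy) hkg⟩, ?_⟩
    rw [← mul_assoc, hvy]; group
  have hRNH : R ≤ normalizer ((H ⊓ normalizer (Y1 : Set G) : Subgroup G) : Set G) :=
    Cfsg.Agent.Lib.Helper22.le_normalizer_inf_normalizer le_normalizer_of_normal hRY1
  obtain ⟨P0, hP0N, hP0p, hP0i, hRP0⟩ := Cfsg.Agent.Lib.Helper1.exists_invariant_sylow R
    (H ⊓ normalizer (Y1 : Set G)) hRNH (hRcop _ inf_le_left) (Or.inr inferInstance) p
  obtain ⟨Y0, ⟨hY0N, hY0π, hY0i⟩, hRY0⟩ := Cfsg.Agent.Lib.Helper24.exists_invariant_piHall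
    {q | q ≠ p} R (H ⊓ normalizer (Y1 : Set G)) hRNH (hRcop _ inf_le_left) inferInstance
  have hY0p : (Nat.card Y0).Coprime p :=
    ((Nat.Prime.coprime_iff_not_dvd hp.out).2 (fun hd => hY0π p hp.out hd rfl)).symm
  have hfac := exists_mul_of_hall hY0N hP0N hP0p hP0i hY0p (fun q hq hqp => hY0i q hq hqp)
  have hP0H : P0 ≤ H := hP0N.trans inf_le_left
  have hP0Y1 : P0 ≤ normalizer (Y1 : Set G) := hP0N.trans inf_le_right
  have hWP0 : ⁅P0, R⁆ ≤ P0 := le_normalizer_iff_commutator_le_left.1 hRP0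
  have hcen := sylow_step hB hodd h hVe hVH hCV hY1H hY1p hRY1 hP0H hP0p hP0Y1 hRP0 hpr
  -- `[P₀, R] ≤ V`
  have hWF : ⁅P0, R⁆ ≤ F := by
    intro w hw
    apply hCF w (hP0H (hWP0 hw))
    intro y hy
    obtain ⟨v, hv, y1, hy1, rfl⟩ := mem_sup_of_normal_left.1 (hFVY hy)
    have h1 : ⁅w, y1⁆ = 1 := by
      rw [commutatorElement_eq_one_iff_mul_comm]
      exact mem_centralizer_iff.1 (hcen hy1) w hw
    rw [commutator_mul_right, h1, mul_one, mul_inv_cancel, mul_one, commutatorElement_def]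
    exact mul_mem (Subgroup.Normal.conj_mem inferInstance v hv w) (inv_mem hv)
  have hPFV : P0 ⊓ F ≤ V := by
    rw [← relIndex_eq_one]
    have h1 : V.relIndex (P0 ⊓ F) ∣ V.relIndex F :=
      Cfsg.Agent.Lib.Helper63.relIndex_dvd_of_le_right_of_normal V inf_le_right
    obtain ⟨k, hk⟩ := (hP0p.to_le (inf_le_left : P0 ⊓ F ≤ P0)).exists_card_eq
    have h2 : V.relIndex (P0 ⊓ F) ∣ p ^ k := hk ▸ relIndex_dvd_card V (P0 ⊓ F)
    exact Nat.eq_one_of_dvd_coprimes (Nat.Coprime.pow_right k hFi) h1 h2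
  have hW : ⁅P0, R⁆ ≤ V := (le_inf hWP0 hWF).trans hPFV
  -- finish
  have hL : ⁅H, R⁆ ≤ V ⊔ Y0 := by
    rw [commutator_le]
    intro g hg s hs
    obtain ⟨v, hv, n, hn, rfl⟩ := hfr g hg
    obtain ⟨y, hy, u, hu, rfl⟩ := hfac n hn
    have hVs : ∀ x ∈ V, x ∈ V ⊔ Y0 := fun x hx => mem_sup_left hx
    have h1 : ⁅y * u, s⁆ ∈ V ⊔ Y0 := by
      rw [commutator_mul_left]
      apply mul_mem
      · exact hVs _ (Subgroup.Normal.conj_mem inferInstance _ (hW (commutator_mem_commutator hu hs)) y)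
      · apply mem_sup_right
        rw [commutatorElement_def, mul_assoc, mul_assoc]
        apply mul_mem hy
        rw [← mul_assoc]
        exact (mem_normalizer_iff.1 (hRY0 hs) y⁻¹).1 (inv_mem hy)
    rw [commutator_mul_left]
    apply mul_mem (mul_mem (mul_mem (hVs v hv) h1) (inv_mem (hVs v hv)))
    apply hVs
    rw [commutatorElement_def, mul_assoc, mul_assoc]
    apply mul_mem hv
    rw [← mul_assoc]
    exact Subgroup.Normal.conj_mem inferInstance _ (inv_mem hv) s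
  have hS : IsPGroup p (V.subgroupOf ⁅H, R⁆) := hVp.comap_subtype
  obtain ⟨k, hk⟩ := hS.exists_card_eq
  apply Cfsg.Agent.Lib.Helper24.pLengthLE_one_of_chain hp.out ⊥ (V.subgroupOf ⁅H, R⁆)
  · simp
  · exact ⟨k, by rw [relIndex_bot_left]; exact hk⟩
  · show (V.relIndex ⁅H, R⁆).Coprime p
    have h1 : V.relIndex ⁅H, R⁆ ∣ V.relIndex (V ⊔ Y0) :=
      Cfsg.Agent.Lib.Helper63.relIndex_dvd_of_le_right_of_normal V hL
    rw [relIndex_sup_left] at h1
    exact Nat.Coprime.of_dvd_left (h1.trans (relIndex_dvd_card V Y0)) hY0p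

/-- Part A: BG 3.6 follows from the core theorem. -/
theorem main (hB : Core.{u}) (p : ℕ) [hp : Fact p.Prime] : ∀ (n : ℕ) (G : Type u) [Group G] [Finite G]
    [Group.IsSolvable G], Nat.card G = n → Odd (Nat.card G) → ∀ H R R₀ : Subgroup G, Hyp H R R₀ →
    PLengthLE p 1 ↥⁅H, R⁆ := by
  intro n
  induction n using Nat.strong_induction_on with
  | _ n ih =>
    intro G _ _ _ hn hodd H R R₀ h
    haveI := h.normal
    haveI := h.commutator_normal
    have hLH : ⁅H, R⁆ ≤ H := Subgroup.commutator_le_left H R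
    have ihq : ∀ N : Subgroup G, ∀ _ : N.Normal, N ≤ H → N ≠ ⊥ →
        PLengthLE p 1 ↥((⁅H, R⁆).map (QuotientGroup.mk' N)) := by
      intro N _ hNH hN
      have hcard : Nat.card G = Nat.card (G ⧸ N) * Nat.card N :=
        Subgroup.card_eq_card_quotient_mul_card_subgroup N
      have hN1 : 1 < Nat.card N := by
        have h1 : Nat.card N ≠ 1 := fun h => hN (Subgroup.card_eq_one.1 h)
        have h2 : 0 < Nat.card N := Nat.card_pos
        omega
      have hlt : Nat.card (G ⧸ N) < n := by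
        rw [← hn, hcard]
        exact lt_mul_of_one_lt_right Nat.card_pos hN1
      have hodd' : Odd (Nat.card (G ⧸ N)) := by
        rw [hcard] at hodd
        exact (Nat.odd_mul.1 hodd).1
      have := ih _ hlt (G ⧸ N) rfl hodd' _ _ _ (h.map (QuotientGroup.mk' N)
        (QuotientGroup.mk'_surjective N) (by rw [QuotientGroup.ker_mk']; exact hNH))
      rwa [← map_commutator] at this
    by_cases hpH : p ∣ Nat.card H
    swap
    · apply Cfsg.Agent.Lib.Helper63.PLengthLE.mono (k := 0) _ (by omega)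
      apply Cfsg.Agent.Lib.Helper63.pLengthLE_zero_of_coprime
      exact Nat.Coprime.of_dvd_left (card_dvd_of_le hLH)
        ((Nat.Prime.coprime_iff_not_dvd hp.out).2 hpH).symm
    by_cases h1 : pPrimeCore p G ⊓ H = ⊥
    swap
    · -- A2
      apply pl_of_map_coprime hp.out (QuotientGroup.mk' (pPrimeCore p G ⊓ H)) _ _
        (ihq _ inferInstance inf_le_right h1)
      rw [QuotientGroup.ker_mk']
      exact Nat.Coprime.of_dvd_left (card_dvd_of_le (inf_le_left.trans inf_le_left))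
        (Cfsg.Agent.Lib.Lead.card_pPrimeCore_coprime p)
    have hCT := hh_amb H p h1
    have hTp : IsPGroup p (pCore p G ⊓ H : Subgroup G) :=
      (Cfsg.Agent.Lib.Lead.pCore_isPGroup p G).to_le inf_le_left
    by_cases h2 : Frat (pCore p G ⊓ H) = ⊥
    swap
    · -- A3
      apply pl_of_map_pgroup (QuotientGroup.mk' (Frat (pCore p G ⊓ H))) _ _
        (pPrimeCore_map_eq_bot hTp inf_le_right hLH hCT)
        (ihq _ inferInstance ((Frat_le _).trans inf_le_right) h2)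
      rw [QuotientGroup.ker_mk']
      exact hTp.to_le (inf_le_left.trans (Frat_le _))
    exact A4 hB hodd h hpH hCT (isElementaryAbelian_of_Frat_eq_bot _ hTp h2)

/-- BG 3.6 (the frozen statement S1444) from the core theorem. -/
theorem bg36_of_core (hB : Core.{u}) {G : Type u} [Group G] [Finite G] [Group.IsSolvable G]
    (hodd : Odd (Nat.card G)) (H R R₀ : Subgroup G) [hH : H.Normal]
    (hHall : (Nat.card H).Coprime H.index)
    (hR : Subgroup.IsComplement' H R) (hR₀ : R₀ ≤ R) (hR₀p : (Nat.card R₀).Prime)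
    (hZ : IsZGroup ↥(H ⊓ Subgroup.centralizer (R₀ : Set G)))
    (p : ℕ) [Fact p.Prime] :
    Cfsg.PLengthLE p 1 ↥⁅H, R⁆ :=
  main hB p _ G rfl hodd H R R₀ ⟨hH, hHall, hR, hR₀, hR₀p, hZ⟩

end Cfsg.Agent.Lib.Helper68.BG36
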