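/-
helper68: BG 10.8 (statement S1414), from `p`-length one of proper subgroups (S1410) as a hypothesis.
-/
import Cfsg.Agent.Lib.Helper68.BG121
import Cfsg.Agent.Lib.Helper24.NarrowSolv
import Cfsg.Agent.Lib.Helper24.U95a
import Cfsg.Agent.Lib.Helper25.FpfNilpotent
import Cfsg.Agent.Lib.Lead.Functor
import Cfsg.Agent.S1450
import Cfsg.Agent.S1403

set_option autoImplicit false
set_option linter.unusedVariables false
set_option linter.unusedSectionVars false
set_option linter.style.haveILetI false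

namespace Cfsg.Agent.Lib.Helper68.BG108

open Subgroup Cfsg Cfsg.Agent.Lib.Helper24 Cfsg.Agent.Lib.Helper68.BG121
open scoped commutatorElement

/-- "narrow data" of helper24 on a `p`-group. -/
def NData (p : ℕ) (P : Type*) [Group P] : Prop :=
  ∃ (T : Subgroup P) (x : P), T.Characteristic ∧ T.index = p ∧
      ∀ F : Subgroup P, F ≤ T → (∀ f ∈ F, f ^ p = 1) → (∀ f ∈ F, Commute x f) → Nat.card F ≤ p

/-- The conclusions of BG 4.18 / 5.6. -/
def PStruct (p : ℕ) (G : Type*) [Group G] : Prop :=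
  (∀ q : ℕ, q.Prime → q ∣ (Cfsg.pPrimeCore p G).index → q ≤ p) ∧
      ((p = 3 ∨ ∀ q : ℕ, q.Prime → q ∣ Nat.card G → p ≤ q) → Cfsg.HasNormalPComplement p G) ∧
      Cfsg.HasNormalPComplement p ↥(commutator G) ∧
      (∀ L : Subgroup ↥(commutator G), (Nat.card L).Coprime p → L ≤ Cfsg.pPrimeCore p ↥(commutator G)) ∧
      commutator G ≤ Cfsg.pPrimePCore p G ∧ ((Cfsg.pPrimePCore p G).index).Coprime p

/-- variant of S1455 (same proof, by helper24) with narrow data instead of `IsNarrow`. -/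
theorem pstruct_of_ndata {G : Type*} [Group G] [Finite G] [Group.IsSolvable G] (hodd : Odd (Nat.card G))
    (p : ℕ) [Fact p.Prime] (hpG : p ∣ Nat.card G) (S : Sylow p G) (hS : NData p ↥(S : Subgroup G))
    (hpl : Cfsg.PLengthLE p 1 G) : PStruct p G := by
  have hp : p.Prime := Fact.out
  have hp2 : p ≠ 2 := by
    rintro rfl
    exact (Nat.not_even_iff_odd.2 hodd) (even_iff_two_dvd.2 hpG)
  have hidx := index_pPrimePCore_coprime_of_pLengthLE_one p hpl
  set K := Cfsg.pPrimeCore p G with hKdef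
  have hKcop : (Nat.card K).Coprime p := Cfsg.Agent.Lib.Lead.card_pPrimeCore_coprime p
  have hcore : Cfsg.pPrimeCore p (G ⧸ K) = ⊥ := Cfsg.Agent.Lib.Lead.pPrimeCore_quotient_pPrimeCore p G
  haveI hMn : (Cfsg.pPrimePCore p G).Normal := Subgroup.Normal.comap inferInstance _
  have hSM : (S : Subgroup G) ≤ Cfsg.pPrimePCore p G := by
    intro s hs
    apply mem_of_mem_normalizer_of_coprime_index _ s (by rw [Subgroup.normalizer_eq_top]; trivial)
    obtain ⟨k, hk⟩ := S.2 ⟨s, hs⟩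
    have h1 : s ^ p ^ k = 1 := congrArg Subtype.val hk
    exact Nat.Coprime.of_dvd_right (orderOf_dvd_of_pow_eq_one h1) (Nat.Coprime.pow_right k hidx)
  have hReq : Cfsg.pCore p (G ⧸ K) = (S : Subgroup G).map (QuotientGroup.mk' K) := by
    apply le_antisymm
    · have h1 := Cfsg.Agent.Lib.Lead.pCore_le_sylow
        (Sylow.mapSurjective (QuotientGroup.mk'_surjective K) S)
      rwa [Sylow.coe_mapSurjective] at h1
    · rw [Subgroup.map_le_iff_le_comap]; exact hSM
  have hinj : Function.Injective ((QuotientGroup.mk' K).subgroupMap (S : Subgroup G)) := by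
    rw [injective_iff_map_eq_one]
    intro s hs
    have h1 : QuotientGroup.mk' K (s : G) = 1 := congrArg Subtype.val hs
    have h2 : (s : G) ∈ K := (QuotientGroup.eq_one_iff _).1 h1
    have hdisj : Disjoint (S : Subgroup G) K := by
      apply Subgroup.disjoint_of_coprime_natCard
      obtain ⟨i, hi⟩ := IsPGroup.iff_card.1 S.2
      rw [hi]
      exact (Nat.Coprime.pow_right i hKcop).symm
    have h3 : (s : G) ∈ (S : Subgroup G) ⊓ K := ⟨s.2, h2⟩
    rw [hdisj.eq_bot, Subgroup.mem_bot] at h3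
    exact Subtype.ext h3
  let e : ↥(S : Subgroup G) ≃* ↥(Cfsg.pCore p (G ⧸ K)) :=
    (MulEquiv.ofBijective _ ⟨hinj, MonoidHom.subgroupMap_surjective _ _⟩).trans
      (MulEquiv.subgroupCongr hReq.symm)
  have hdata := narrow_data_of_mulEquiv e p hS
  obtain ⟨h1, h2, h3⟩ := narrow_solvable_core p hp2 hcore hdata
  exact pstructure_of_core hodd p h1 h2 h3

variable {G : Type*} [Group G] [Finite G]

/-- a non-ideal prime of rank at least 3: the Sylow subgroups carry narrow data. -/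
theorem ndata_of_not_ideal {p : ℕ} [hp : Fact p.Prime] (hp2 : p ≠ 2) (hr : ¬ PRankLE p 2 G)
    (hni : ¬ IsIdealPrime p G) : ∃ P : Sylow p G, NData p ↥(P : Subgroup G) := by
  unfold IsIdealPrime at hni
  push Not at hni
  obtain ⟨P, A, hAP, hA, hA2, hmax⟩ := hni hp.out hr
  refine ⟨P, ?_⟩
  have hrP : ¬ PRankLE p 2 ↥(P : Subgroup G) := fun h => hr (pRankLE_of_sylow p 2 P h)
  have hmapA : (A.subgroupOf (P : Subgroup G)).map (P : Subgroup G).subtype = A :=
    map_subgroupOf_eq_of_le hAP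
  apply exists_narrow_data p hp2 P.2 hrP (A.subgroupOf (P : Subgroup G))
  · refine ⟨⟨⟨fun a b => ?_⟩⟩, fun a ha => ?_⟩
    · apply Subtype.ext; apply Subtype.ext
      have h1 := congrArg Subtype.val (hA.1.is_comm.comm ⟨a.1.1, a.2⟩ ⟨b.1.1, b.2⟩)
      exact h1
    · exact Subtype.ext (hA.2 a.1 ha)
  · rw [Nat.card_congr (subgroupOfEquivOfLe hAP).toEquiv]; exact hA2
  · intro B hB hle
    have hB' : IsElementaryAbelian p (B.map (P : Subgroup G).subtype) := by
      refine ⟨⟨⟨?_⟩⟩, ?_⟩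
      · rintro ⟨_, a, ha, rfl⟩ ⟨_, b, hb, rfl⟩
        apply Subtype.ext
        exact congrArg (fun z : ↥B => ((z : ↥(P : Subgroup G)) : G)) (hB.1.is_comm.comm ⟨a, ha⟩ ⟨b, hb⟩)
      · rintro _ ⟨a, ha, rfl⟩
        exact congrArg Subtype.val (hB.2 a ha)
    have hAB : A ≤ B.map (P : Subgroup G).subtype := by
      rw [← hmapA]; exact map_mono hle
    have hnlt := hmax (B.map (P : Subgroup G).subtype) (map_subtype_le _) hB'
    have heq : A = B.map (P : Subgroup G).subtype := by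
      by_contra hne
      exact hnlt (lt_of_le_of_ne hAB hne)
    apply map_injective (P : Subgroup G).subtype_injective
    rw [hmapA, heq]

/-- S1410, as a hypothesis. -/
def PL1 (G : Type*) [Group G] : Prop :=
  ∀ (p : ℕ) [Fact p.Prime] (H : Subgroup G), H ≠ ⊤ → Cfsg.PLengthLE p 1 H

theorem pstruct_of_not_beta (hG : IsMinSimpleOddOrder G) (hPL : PL1 G) {M : Subgroup G}
    (hM : IsCoatom M) {p : ℕ} [hp : Fact p.Prime] (hpM : p ∣ Nat.card M) (hpβ : p ∉ beta M) :
    PStruct p ↥M := by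
  have hU : UT G := fun K hK hK2 hK3 => Cfsg.Agent.S1403.result hG K hK hK2 hK3
  haveI := MS_solvable hG hM.1
  have hodd := MS_odd hG M
  have hp2 : p ≠ 2 := MS_prime_ne_two hG hpM
  by_cases hr : PRankLE p 2 ↥M
  · exact Cfsg.Agent.S1450.result hodd p hpM hr
  have hα : p ∈ alpha M := ⟨hp.out, hr⟩
  have hσ := alpha_subset_sigma hG hU hM hα
  have hni : ¬ IsIdealPrime p G := fun h => hpβ ⟨hα, h⟩
  have hrG : ¬ PRankLE p 2 G := fun h =>
    hr (Cfsg.Agent.Lib.Helper23.pRankLE_of_injective p 2 M.subtype M.subtype_injective h)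
  obtain ⟨P, hP⟩ := ndata_of_not_ideal hp2 hrG hni
  let S : Sylow p ↥M := default
  have hS := sigma_isSylowIn_top hσ (Cfsg.Agent.Lib.Helper34.Sylow.isSylowIn_map S)
  have hSi : ¬ p ∣ ((S : Subgroup ↥M).map M.subtype).index := by
    have := hS.2.2
    rwa [relIndex_top_right] at this
  let S'' : Sylow p G := hS.2.1.toSylow hSi
  let e1 : ↥(P : Subgroup G) ≃* ↥(S'' : Subgroup G) := Sylow.equiv P S''
  let e2 : ↥(S : Subgroup ↥M) ≃* ↥((S : Subgroup ↥M).map M.subtype) :=
    (S : Subgroup ↥M).equivMapOfInjective M.subtype M.subtype_injective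
  have hdata : NData p ↥(S : Subgroup ↥M) := narrow_data_of_mulEquiv (e1.trans e2.symm) p hP
  exact pstruct_of_ndata hodd p hpM S hdata (hPL p M hM.1)

/-- for `q ∈ σ(M)`, `q` does not divide `|M : M'|`. -/
theorem sigma_not_dvd_index_commutator (hG : IsMinSimpleOddOrder G) {M : Subgroup G}
    (hM : IsCoatom M) {q : ℕ} (hq : q ∈ sigma M) : ¬ q ∣ (commutator ↥M).index := by
  have hU : UT G := fun K hK hK2 hK3 => Cfsg.Agent.S1403.result hG K hK hK2 hK3
  haveI : Fact q.Prime := ⟨hq.1⟩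
  let Q : Sylow q ↥M := default
  have h1 := sigma_sylow_le_commutator hG hU hM hq (Cfsg.Agent.Lib.Helper34.Sylow.isSylowIn_map Q)
  rw [← map_subtype_commutator] at h1
  have h2 : (Q : Subgroup ↥M) ≤ commutator ↥M := (map_le_map_iff_of_injective M.subtype_injective).1 h1
  exact fun h => Q.not_dvd_index (h.trans (index_dvd_of_le h2))

theorem sigmaCore_le_commutator (hG : IsMinSimpleOddOrder G) {M : Subgroup G} (hM : IsCoatom M) :
    sigmaCore M ≤ ⁅M, M⁆ := by
  rw [← map_subtype_commutator]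
  apply map_mono
  apply le_of_normal_of_coprime_index
  exact Nat.coprime_of_dvd fun k hk h1 h2 =>
    sigma_not_dvd_index_commutator hG hM (Cfsg.Agent.Lib.Helper23.piCore_primes _ _ k hk h1) h2

theorem beta_subset_sigma (hG : IsMinSimpleOddOrder G) {M : Subgroup G} (hM : IsCoatom M) {q : ℕ}
    (hq : q ∈ beta M) : q ∈ sigma M :=
  alpha_subset_sigma hG (fun K hK hK2 hK3 => Cfsg.Agent.S1403.result hG K hK hK2 hK3) hM hq.1

/-- `O_β(M)` has index prime to `β(M)`. -/
theorem beta_not_dvd_index (hG : IsMinSimpleOddOrder G) (hPL : PL1 G) {M : Subgroup G}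
    (hM : IsCoatom M) {q : ℕ} (hq : q ∈ beta M) : ¬ q ∣ (piCore (beta M) ↥M).index := by
  have hqσ := beta_subset_sigma hG hM hq
  haveI : Fact q.Prime := ⟨hqσ.1⟩
  -- the normal subgroup `D`
  let ι := {p : ℕ // p.Prime ∧ p ∣ Nat.card M ∧ p ∉ beta M}
  let D : Subgroup ↥M := ⨅ i : ι, (pPrimeCore i.1 ↥(commutator ↥M)).map (commutator ↥M).subtype
  haveI hDn : D.Normal := Subgroup.normal_iInf_normal fun i =>
    Cfsg.Agent.Lib.Lead.normal_map_subtype_of_characteristic (commutator ↥M) _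
  have hDβ : ∀ r : ℕ, r.Prime → r ∣ Nat.card D → r ∈ beta M := by
    intro r hr hrd
    by_contra hrβ
    have hrM : r ∣ Nat.card M := hrd.trans (Subgroup.card_subgroup_dvd_card _)
    have h1 : D ≤ (pPrimeCore r ↥(commutator ↥M)).map (commutator ↥M).subtype :=
      iInf_le (fun i : ι => (pPrimeCore i.1 ↥(commutator ↥M)).map (commutator ↥M).subtype)
        ⟨r, hr, hrM, hrβ⟩
    have h2 : r ∣ Nat.card (pPrimeCore r ↥(commutator ↥M)) := by
      rw [← Subgroup.card_map_of_injective (commutator ↥M).subtype_injective]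
      exact hrd.trans (card_dvd_of_le h1)
    exact (Nat.Prime.coprime_iff_not_dvd hr).1 (Cfsg.Agent.Lib.Lead.card_pPrimeCore_coprime r).symm h2
  have hDle : D ≤ piCore (beta M) ↥M := le_sSup ⟨hDn, hDβ⟩
  let Q : Sylow q ↥M := default
  have hQC : (Q : Subgroup ↥M) ≤ commutator ↥M := by
    have hU : UT G := fun K hK hK2 hK3 => Cfsg.Agent.S1403.result hG K hK hK2 hK3
    have h1 := sigma_sylow_le_commutator hG hU hM hqσ (Cfsg.Agent.Lib.Helper34.Sylow.isSylowIn_map Q)
    rw [← map_subtype_commutator] at h1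
    exact (map_le_map_iff_of_injective M.subtype_injective).1 h1
  have hQD : (Q : Subgroup ↥M) ≤ D := by
    apply le_iInf
    rintro ⟨p, hp, hpM, hpβ⟩
    haveI : Fact p.Prime := ⟨hp⟩
    have hps := pstruct_of_not_beta hG hPL hM hpM hpβ
    have hpq : q ≠ p := by rintro rfl; exact hpβ hq
    have h1 := hps.2.2.2.1 ((Q : Subgroup ↥M).subgroupOf (commutator ↥M)) (by
      rw [Nat.card_congr (subgroupOfEquivOfLe hQC).toEquiv]
      obtain ⟨n, hn⟩ := Q.2.exists_card_eq
      rw [hn]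
      exact Nat.Coprime.pow_left n ((Nat.coprime_primes hqσ.1 hp).2 hpq))
    have h2 := map_mono (f := (commutator ↥M).subtype) h1
    rwa [map_subgroupOf_eq_of_le hQC] at h2
  exact fun h => Q.not_dvd_index (h.trans (index_dvd_of_le (hQD.trans hDle)))

theorem npc_commutator (hG : IsMinSimpleOddOrder G) (hPL : PL1 G) {M : Subgroup G}
    (hM : IsCoatom M) {p : ℕ} [hp : Fact p.Prime] (hpM : p ∣ Nat.card M) (hpβ : p ∉ beta M) :
    HasNormalPComplement p ↥⁅M, M⁆ := by
  have h1 := (pstruct_of_not_beta hG hPL hM hpM hpβ).2.2.1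
  have h2 := Cfsg.Agent.Lib.Lead.HasNormalPComplement.map M.subtype h1
  rwa [map_subtype_commutator] at h2

/-- a Hall `β'`-subgroup of a subgroup of `M'` exists and is nilpotent. -/
theorem exists_nilpotent_hall (hG : IsMinSimpleOddOrder G) (hPL : PL1 G) {M : Subgroup G}
    (hM : IsCoatom M) {Y : Subgroup G} (hY : Y ≤ ⁅M, M⁆) :
    ∃ H : Subgroup G, IsPiHallOf {q | q.Prime ∧ q ∉ beta M} H Y ∧ Group.IsNilpotent H := by
  have hM'M : ⁅M, M⁆ ≤ M := commutator_le_self M
  have hYs : Group.IsSolvable Y := by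
    haveI := MS_solvable hG hM.1
    exact solvable_of_solvable_injective (Subgroup.inclusion_injective (hY.trans hM'M))
  obtain ⟨H, hH, -⟩ := exists_invariant_piHall {q | q.Prime ∧ q ∉ beta M} ⊥ Y bot_le (by simp) hYs
  refine ⟨H, hH, ?_⟩
  apply Cfsg.Agent.Lib.Helper25.isNilpotent_of_forall_hasNormalPComplement
  intro q hq
  haveI : Fact q.Prime := ⟨hq⟩
  by_cases hqd : q ∣ Nat.card H
  · have hqβ : q ∉ beta M := (hH.2.1 q hq hqd).2
    have hqM : q ∣ Nat.card M := hqd.trans (card_dvd_of_le ((hH.1.trans hY).trans hM'M))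
    exact Cfsg.Agent.Lib.Lead.HasNormalPComplement.of_le (hH.1.trans hY) (npc_commutator hG hPL hM hqM hqβ)
  · exact Cfsg.Agent.Lib.Lead.hasNormalPComplement_of_coprime_card
      ((Nat.Prime.coprime_iff_not_dvd hq).2 hqd).symm

/-- BG 10.8 (the frozen statement S1414) from S1410. -/
theorem bg108 (hG : Cfsg.IsMinSimpleOddOrder G) (hPL : PL1 G)
    (M : Subgroup G) (hM : IsCoatom M) :
    Cfsg.IsPiHallOf (Cfsg.beta M) (Cfsg.piCoreOf (Cfsg.beta M) M) M ∧ Cfsg.IsPiHall (Cfsg.beta M) (Cfsg.piCoreOf (Cfsg.beta M) M) ∧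
      (∃ H : Subgroup G, Cfsg.IsPiHallOf {q | q.Prime ∧ q ∉ Cfsg.beta M} H ⁅M, M⁆ ∧ Group.IsNilpotent H) ∧
      (∃ H : Subgroup G, Cfsg.IsPiHallOf {q | q.Prime ∧ q ∉ Cfsg.beta M} H (Cfsg.sigmaCore M) ∧ Group.IsNilpotent H) ∧
      ∀ p : ℕ, p.Prime → p ∣ Nat.card M → p ∉ Cfsg.beta M →
        Cfsg.HasNormalPComplement p ↥⁅M, M⁆ ∧ Cfsg.HasNormalPComplement p ↥(Cfsg.sigmaCore M) ∧
        ∀ q : ℕ, q.Prime → q ∣ (Cfsg.pPrimeCore p ↥M).index → q ≤ p := by
  have hprimes : ∀ p : ℕ, p.Prime → p ∣ Nat.card (piCoreOf (beta M) M) → p ∈ beta M := by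
    intro p hp hd
    unfold piCoreOf at hd
    rw [Subgroup.card_map_of_injective M.subtype_injective] at hd
    exact Cfsg.Agent.Lib.Helper23.piCore_primes _ M p hp hd
  have hσM' := sigmaCore_le_commutator hG hM
  refine ⟨⟨Subgroup.map_subtype_le _, hprimes, ?_⟩, ⟨hprimes, ?_⟩, exists_nilpotent_hall hG hPL hM le_rfl,
    exists_nilpotent_hall hG hPL hM hσM', ?_⟩
  · intro p hp hpβ
    unfold piCoreOf
    rw [relIndex_map_subtype]
    exact beta_not_dvd_index hG hPL hM hpβ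
  · intro p hp hpβ hd
    haveI : Fact p.Prime := ⟨hp⟩
    unfold piCoreOf at hd
    rw [← Subgroup.relIndex_mul_index (Subgroup.map_subtype_le _), relIndex_map_subtype] at hd
    rcases (Nat.Prime.dvd_mul hp).1 hd with h | h
    · exact beta_not_dvd_index hG hPL hM hpβ h
    · exact sigma_not_dvd_index (beta_subset_sigma hG hM hpβ) h
  · intro p hp hpM hpβ
    haveI : Fact p.Prime := ⟨hp⟩
    have h1 := npc_commutator hG hPL hM hpM hpβ
    exact ⟨h1, Cfsg.Agent.Lib.Lead.HasNormalPComplement.of_le hσM' h1,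
      (pstruct_of_not_beta hG hPL hM hpM hpβ).1⟩

end Cfsg.Agent.Lib.Helper68.BG108
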