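import Cfsg.Agent.Lib.Helper68.BG157a
import Cfsg.Agent.Lib.Helper34.BGRows
import Cfsg.Agent.S1429
import Cfsg.Agent.S1545

/-!
# BG 15.7' part (b): `F(M)` is a TI-subset when `K ≠ 1` and `U ≠ 1`
-/

set_option linter.unusedVariables false
set_option linter.style.haveILetI false
set_option linter.unusedSectionVars false

namespace Cfsg.Agent.Lib.Helper68.BG157

open Subgroup Cfsg
open Cfsg.Agent.Lib
open Cfsg.Agent.Lib.Helper24 Cfsg.Agent.Lib.Helper34 Cfsg.Agent.Lib.Helper31.BG11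
open Cfsg.Agent.Lib.Helper34.BG13 Cfsg.Agent.Lib.Helper34.BG16 Cfsg.Agent.Lib.Helper10.BG124
open Cfsg.Agent.Lib.Helper20.BG14 Cfsg.Agent.Lib.Helper34.BGRows

universe u

variable {G : Type u} [Group G] [Finite G] {M : Subgroup G}

/-- `Ω₁(Z(Q))` as a subgroup of the ambient group. -/
def omZ (q : ℕ) (Q : Subgroup G) : Subgroup G where
  carrier := {z | z ∈ Q ∧ z ∈ centralizer (Q : Set G) ∧ z ^ q = 1}
  one_mem' := ⟨one_mem _, one_mem _, one_pow _⟩
  mul_mem' := by
    rintro a b ⟨ha, hac, haq⟩ ⟨hb, hbc, hbq⟩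
    refine ⟨mul_mem ha hb, mul_mem hac hbc, ?_⟩
    have hc : Commute a b := (mem_centralizer_iff.1 hbc a ha)
    rw [hc.mul_pow, haq, hbq, one_mul]
  inv_mem' := by
    rintro a ⟨ha, hac, haq⟩
    exact ⟨inv_mem ha, inv_mem hac, by rw [inv_pow, haq, inv_one]⟩

theorem mem_omZ {q : ℕ} {Q : Subgroup G} {z : G} :
    z ∈ omZ q Q ↔ z ∈ Q ∧ z ∈ centralizer (Q : Set G) ∧ z ^ q = 1 := Iff.rfl

theorem omZ_le (q : ℕ) (Q : Subgroup G) : omZ q Q ≤ Q := fun _ h => h.1

theorem omZ_le_centralizer (q : ℕ) (Q : Subgroup G) : omZ q Q ≤ centralizer (Q : Set G) :=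
  fun _ h => h.2.1

theorem omZ_pow {q : ℕ} {Q : Subgroup G} {z : G} (h : z ∈ omZ q Q) : z ^ q = 1 := h.2.2

theorem omZ_comm (q : ℕ) (Q : Subgroup G) : IsMulCommutative ↥(omZ q Q) :=
  ⟨⟨fun a b => Subtype.ext (mem_centralizer_iff.1 b.2.2.1 a a.2.1)⟩⟩

theorem normalizer_le_normalizer_omZ (q : ℕ) (Q : Subgroup G) :
    normalizer (Q : Set G) ≤ normalizer (omZ q Q : Set G) := by
  have key : ∀ n ∈ normalizer (Q : Set G), ∀ z ∈ omZ q Q, n * z * n⁻¹ ∈ omZ q Q := by
    intro n hn z hz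
    refine ⟨(mem_normalizer_iff.1 hn z).1 hz.1, ?_, by rw [conj_pow, hz.2.2]; group⟩
    rw [mem_centralizer_iff]
    intro y hy
    have h1 : n⁻¹ * y * n ∈ Q := by
      have := (mem_normalizer_iff.1 (inv_mem hn) y).1 hy
      simpa using this
    have h2 := mem_centralizer_iff.1 hz.2.1 _ h1
    calc y * (n * z * n⁻¹) = n * ((n⁻¹ * y * n) * z) * n⁻¹ := by group
      _ = n * (z * (n⁻¹ * y * n)) * n⁻¹ := by rw [h2]
      _ = n * z * n⁻¹ * y := by group
  intro n hn
  rw [mem_normalizer_iff]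
  intro z
  refine ⟨key n hn z, fun h => ?_⟩
  have := key n⁻¹ (inv_mem hn) _ h
  simpa [mul_assoc] using this

theorem omZ_ne_bot {q : ℕ} [Fact q.Prime] {Q : Subgroup G} (hQ : IsPGroup q Q) (hne : Q ≠ ⊥) :
    omZ q Q ≠ ⊥ := by
  obtain ⟨z, hz, hzc, hz1, hzq⟩ := exists_central_order_p hQ hne
  intro h
  have : z ∈ omZ q Q := ⟨hz, hzc, hzq⟩
  rw [h, mem_bot] at this
  exact hz1 this

theorem centralizer_singleton_ne_top (hG : IsMinSimpleOddOrder G) {x : G} (hx : x ≠ 1) :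
    centralizer ({x} : Set G) ≠ ⊤ := by
  intro h
  haveI := MS_simple hG
  have h1 : x ∈ center G := by
    rw [mem_center_iff]
    intro g
    have : g ∈ centralizer ({x} : Set G) := h ▸ mem_top g
    exact mem_centralizer_singleton_iff.1 this
  rcases (inferInstance : (center G).Normal).eq_bot_or_eq_top with h2 | h2
  · rw [h2, mem_bot] at h1; exact hx h1
  · apply MS_not_solvable hG
    haveI : IsMulCommutative G := ⟨⟨fun a b => by
      have : a ∈ center G := h2 ▸ mem_top a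
      exact (mem_center_iff.1 this b).symm⟩⟩
    exact Group.isSolvable_of_comm (fun a b => mul_comm' a b)

/-- a normal elementary abelian `q`-subgroup of `M` in `Z(O_q(M))` of order `> q^2` kills `NT`. -/
theorem NT.false_of_big {g : G} (c : NT M g) {q : ℕ} [hq : Fact q.Prime] {x : G}
    (hx : x ∈ fittingOf M ⊓ cj g (fittingOf M)) (hxo : orderOf x = q)
    (hbig : q ^ 2 < Nat.card ↥(omZ q (pCoreOf q M))) : False := by
  have hG := c.min
  have hx1 : x ≠ 1 := by
    rintro rfl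
    rw [orderOf_one] at hxo
    exact hq.out.one_lt.ne hxo
  have hxQ : x ∈ pCoreOf q M := mem_pCoreOf (mem_inf.1 hx).1 hxo
  set V := omZ q (pCoreOf q M) with hV
  have hVp : IsPGroup q V := (Helper47.pCoreOf_isPGroup M).to_le (omZ_le _ _)
  have hVr : ¬ PRankLE q 2 V :=
    not_pRankLE_of_le le_rfl (omZ_comm _ _) (fun a ha => omZ_pow ha) hbig
  have hVU : InUniqueMaximal V := UT.of_rank3 (ut hG) hq.out (MS_isPGroup_ne_top hG hVp) hVr
  have hVM : V ≤ M := (omZ_le _ _).trans (Helper47.pCoreOf_le M)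
  have hVC : V ≤ centralizer ({x} : Set G) := by
    intro v hv
    rw [mem_centralizer_singleton_iff]
    exact (mem_centralizer_iff.1 (omZ_le_centralizer _ _ hv) x hxQ).symm
  have := le_of_inUniqueMaximal hVU c.coatom hVM (centralizer_singleton_ne_top hG hx1) hVC
  exact c.cent_elem_not_le (p := q) hx (k := 1) (by rw [pow_one, ← hxo, pow_orderOf_eq_one]) hx1 this

/-- (T2) `F(M)` is a TI-subset when `K ≠ 1` and `U ≠ 1`. -/
theorem fitting_TI_of_P2 (hG : IsMinSimpleOddOrder G) (h53 : H1353 G) (hM : IsCoatom M)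
    {K U : Subgroup G} (hKU : IsSigmaDecomposition M K U) (hK1 : K ≠ ⊥) (hU1 : U ≠ ⊥) :
    IsTISubset (fittingOf M : Set G) := by
  apply isTISubset_fittingOf hG hM
  intro g c
  obtain ⟨q, x, hq, hx, hxo⟩ := c.exists_prime
  haveI : Fact q.Prime := ⟨hq⟩
  apply c.false_of_big hx hxo
  have hx1 : x ≠ 1 := by
    rintro rfl
    rw [orderOf_one] at hxo
    exact hq.one_lt.ne hxo
  have hqσ : q ∈ sigma M := c.mem_sigma hq (by
    rw [← hxo]
    have := orderOf_dvd_natCard (⟨x, hx⟩ : ↥(fittingOf M ⊓ cj g (fittingOf M)))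
    rwa [← Subgroup.orderOf_coe] at this)
  have hxQ : x ∈ pCoreOf q M := mem_pCoreOf (mem_inf.1 hx).1 hxo
  have hQ1 : pCoreOf q M ≠ ⊥ := fun h => hx1 (by rw [h, mem_bot] at hxQ; exact hxQ)
  set V := omZ q (pCoreOf q M) with hV
  have hVp : IsPGroup q V := (Helper47.pCoreOf_isPGroup M).to_le (omZ_le _ _)
  have hV1 : V ≠ ⊥ := omZ_ne_bot (Helper47.pCoreOf_isPGroup M) hQ1
  have hVM : V ≤ M := (omZ_le _ _).trans (Helper47.pCoreOf_le M)
  have hVσ : V ≤ sigmaCore M := le_sc hG (ut hG) hM hqσ hVM hVp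
  have hMV : M ≤ normalizer (V : Set G) :=
    (Helper47.le_normalizer_pCoreOf M).trans (normalizer_le_normalizer_omZ _ _)
  have hUM : U ≤ M := hKU.compl.1
  have hKM : K ≤ M := hKU.hall.1
  -- a prime of `U`
  have hUc : Nat.card U ≠ 1 := fun h => hU1 (card_eq_one.1 h)
  obtain ⟨r, hr, hrU⟩ := Nat.exists_prime_and_dvd hUc
  haveI : Fact r.Prime := ⟨hr⟩
  have hrσ : r ∉ sigma M := decomp_U_sigma' hG (ut hG) hM hKU r hr hrU
  have hrκ : r ∉ kappa M := fun h =>
    kappa_not_dvd_card hKU h (hrU.trans (card_dvd_of_le le_sup_left))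
  have hrM : r ∣ Nat.card M := hrU.trans (card_dvd_of_le hUM)
  obtain ⟨R, hR, -⟩ := exists_isSylowIn_ge (p := r) (L := U) (R := ⊥) bot_le IsPGroup.of_bot
  have hRM : IsSylowIn r R M := by
    refine ⟨hR.1.trans hUM, hR.2.1, ?_⟩
    rw [← relIndex_mul_relIndex R U M hR.1 hUM, Helper23.complIn_relIndex_left hKU.compl]
    intro hd
    rcases (Nat.Prime.dvd_mul hr).1 hd with h | h
    · exact hR.2.2 h
    · have h2 := h.trans (Helper1.card_sup_dvd (hKM.trans (sc_norm M)))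
      rcases (Nat.Prime.dvd_mul hr).1 h2 with h3 | h3
      · exact hrκ (hKU.hall.2.1 r hr h3)
      · exact hrσ (sc_primes M hr h3)
  have h29 := Cfsg.Agent.S1429.result hG M hM
    (fun h => hrκ (h r hr hrM hrσ)) r hrM (by
      rintro (h | h)
      · exact hrσ h
      · exact hrκ h) hRM.toSylow
  have hmap : ((hRM.toSylow : Subgroup M)).map M.subtype = R := by
    rw [hRM.coe_toSylow]
    exact map_subgroupOf_eq_of_le hRM.1
  rw [hmap] at h29
  have hCU : V ⊓ centralizer (U : Set G) = ⊥ := by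
    rw [eq_bot_iff, ← h29.2.1]
    refine inf_le_inf hVσ (centralizer_le ?_)
    have : closure {x : G | x ∈ R ∧ x ^ r = 1} ≤ U := by
      rw [closure_le]
      exact fun y hy => hR.1 hy.1
    exact this
  have hqUK : ¬ q ∣ Nat.card (U ⊔ K : Subgroup G) := by
    intro hd
    rw [sup_comm] at hd
    have h2 := hd.trans (Helper1.card_sup_dvd hKU.normal)
    rcases (Nat.Prime.dvd_mul hq).1 h2 with h3 | h3
    · exact (hKU.hall.2.1 q hq h3).2.2.1 hqσ
    · exact decomp_U_sigma' hG (ut hG) hM hKU q hq h3 hqσ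
  obtain ⟨n, hn⟩ := hVp.exists_card_eq
  have hcop : Nat.Coprime (Nat.card V) (Nat.card ↥(U ⊔ K)) := by
    rw [hn]
    exact Nat.Coprime.pow_left _ ((Nat.Prime.coprime_iff_not_dvd hq).2 hqUK)
  have hUKM : U ⊔ K ≤ M := sup_le hUM hKM
  have h45 := Cfsg.Agent.S1545.result U K V hU1 hK1
    (by
      rw [eq_bot_iff, ← hKU.compl.2.2.1]
      exact inf_le_inf_left _ le_sup_left)
    (fun e he u hu => (mem_normalizer_iff.1 (hKU.normal he) u).1 hu)
    (fun e he he1 u hu heu => by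
      have h1 : u ∈ U ⊓ centralizer ({e} : Set G) :=
        mem_inf.2 ⟨hu, mem_centralizer_singleton_iff.2 heu.symm⟩
      rw [h53 M hM K U hKU e he he1, mem_bot] at h1
      exact h1)
    (fun y hy h hh => (mem_normalizer_iff.1 (hMV (hUKM hy)) h).1 hh)
    (disjoint_iff.1 (disjoint_of_coprime_natCard hcop))
    (by haveI := omZ_comm q (pCoreOf q M); exact Group.isSolvable_of_comm (fun a b => mul_comm' a b))
    hcop
  have hCUK : V ⊓ centralizer ((U ⊔ K : Subgroup G) : Set G) = ⊥ := by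
    rw [eq_bot_iff, ← hCU]
    exact inf_le_inf_left _ (centralizer_le (by exact_mod_cast (le_sup_left : U ≤ U ⊔ K)))
  rw [hCUK, hCU, card_bot, one_pow, one_mul, mul_one] at h45
  -- `|K| ≥ 3`
  have hK3 : 3 ≤ Nat.card K := by
    have h1 : Nat.card K ≠ 1 := fun h => hK1 (card_eq_one.1 h)
    have h2 : Odd (Nat.card K) := MS_odd hG K
    have h0 : 0 < Nat.card K := Nat.card_pos
    rcases h2 with ⟨k, hk⟩
    omega
  set cc := Nat.card ↥(V ⊓ centralizer (K : Set G)) with hcc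
  have hVc : Nat.card V ≠ 1 := fun h => hV1 (card_eq_one.1 h)
  have hc1 : cc ≠ 1 := by
    intro h
    rw [h, one_pow] at h45
    exact hVc h45
  have hqc : q ∣ cc := by
    have hp : IsPGroup q ↥(V ⊓ centralizer (K : Set G)) := hVp.to_le inf_le_left
    rcases hp.card_eq_or_dvd with h | h
    · exact absurd h hc1
    · exact h
  have hqle : q ≤ cc := Nat.le_of_dvd Nat.card_pos hqc
  rw [h45]
  calc q ^ 2 < q ^ 3 := Nat.pow_lt_pow_right hq.one_lt (by norm_num)
    _ ≤ cc ^ 3 := Nat.pow_le_pow_left hqle 3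
    _ ≤ cc ^ Nat.card K := Nat.pow_le_pow_right (lt_of_lt_of_le hq.pos hqle) hK3

end Cfsg.Agent.Lib.Helper68.BG157
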