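import Mathlib
import Cfsg.Prelude.Def_Solvable

set_option autoImplicit false

namespace Cfsg.Agent.Lib.Helper68

/-- In a group `K = N H` with `N` normal, every element is `n * h`. -/
lemma exists_mul_of_sup_eq_top {K : Type*} [Group K] (N H : Subgroup K) [N.Normal]
    (hsup : N ⊔ H = ⊤) (g : K) : ∃ n ∈ N, ∃ h ∈ H, g = n * h := by
  have hg : g ∈ ((N ⊔ H : Subgroup K) : Set K) := by
    rw [hsup]; trivial
  rw [Subgroup.normal_mul] at hg
  obtain ⟨m, hm, h, hh, rfl⟩ := Set.mem_mul.mp hg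
  exact ⟨m, hm, h, hh, rfl⟩

/-- In a group `K = N H` with `N` normal, every element is `h * n`. -/
lemma exists_mul_of_sup_eq_top' {K : Type*} [Group K] (N H : Subgroup K) [N.Normal]
    (hsup : N ⊔ H = ⊤) (g : K) : ∃ h ∈ H, ∃ n ∈ N, g = h * n := by
  have hg : g ∈ ((H ⊔ N : Subgroup K) : Set K) := by
    rw [sup_comm, hsup]; trivial
  rw [Subgroup.mul_normal] at hg
  obtain ⟨h, hh, m, hm, rfl⟩ := Set.mem_mul.mp hg
  exact ⟨h, hh, m, hm, rfl⟩

/-- If no nontrivial element of the finite normal subgroup `N` commutes with `h`,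
then every element of the coset `h N` is an `N`-conjugate of `h`. -/
lemma exists_conj_of_fpf {K : Type*} [Group K] (N : Subgroup K) [N.Normal] [Finite N] (h : K)
    (hfpf : ∀ n ∈ N, n * h * n⁻¹ = h → n = 1) (m : K) (hm : m ∈ N) :
    ∃ c ∈ N, h * m = c * h * c⁻¹ := by
  let φ : N → N := fun c => ⟨h⁻¹ * c * h * (c : K)⁻¹, by
    apply N.mul_mem _ (N.inv_mem c.2)
    have := ‹N.Normal›.conj_mem _ c.2 h⁻¹
    simpa using this⟩
  have hφinj : Function.Injective φ := by
    intro c c' hcc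
    have h1 : h⁻¹ * c * h * (c : K)⁻¹ = h⁻¹ * c' * h * (c' : K)⁻¹ := congr_arg Subtype.val hcc
    have h2 : ((c' : K)⁻¹ * c) * h * ((c' : K)⁻¹ * c)⁻¹ = h := by
      have h3 : (c : K) * h * (c : K)⁻¹ = c' * h * (c' : K)⁻¹ := by
        have := congr_arg (fun z => h * z) h1
        simpa [mul_assoc] using this
      calc ((c' : K)⁻¹ * c) * h * ((c' : K)⁻¹ * c)⁻¹ = (c' : K)⁻¹ * ((c : K) * h * (c : K)⁻¹) * c' := by group
        _ = (c' : K)⁻¹ * (c' * h * (c' : K)⁻¹) * c' := by rw [h3]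
        _ = h := by group
    have h4 := hfpf _ (N.mul_mem (N.inv_mem c'.2) c.2) h2
    apply Subtype.ext
    rw [inv_mul_eq_one] at h4
    exact h4.symm
  have hφsurj : Function.Surjective φ := Finite.surjective_of_injective hφinj
  obtain ⟨c, hc⟩ := hφsurj ⟨m, hm⟩
  have hc' : h⁻¹ * c * h * (c : K)⁻¹ = m := congr_arg Subtype.val hc
  refine ⟨c, c.2, ?_⟩
  rw [← hc']; group

/-- Recognition of a Frobenius group `K = N ⋊ H` from a fixed-point-free action:
`H` is a Frobenius complement and the Frobenius kernel (as a set) is `N`. -/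
theorem isFrobeniusComplement_of_fpf {K : Type*} [Group K] (N H : Subgroup K) [N.Normal] [Finite N]
    (hN : N ≠ ⊥) (hH : H ≠ ⊥) (hsup : N ⊔ H = ⊤) (hinf : N ⊓ H = ⊥)
    (hfpf : ∀ h ∈ H, h ≠ 1 → ∀ n ∈ N, n * h * n⁻¹ = h → n = 1) :
    Cfsg.IsFrobeniusComplement H ∧ Cfsg.frobeniusKernel H = (N : Set K) := by
  have hdisj : ∀ z : K, z ∈ N → z ∈ H → z = 1 := by
    intro z h1 h2
    have : z ∈ N ⊓ H := ⟨h1, h2⟩
    rw [hinf] at this
    exact Subgroup.mem_bot.mp this
  refine ⟨⟨hH, ?_, ?_⟩, ?_⟩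
  · rintro rfl
    rw [inf_top_eq] at hinf
    exact hN hinf
  · intro g hg
    rw [eq_bot_iff]
    rintro y ⟨hy, hy'⟩
    obtain ⟨y₁, hy₁, rfl⟩ := Subgroup.mem_smul_pointwise_iff_exists _ _ _ |>.mp hy'
    obtain ⟨m, hm, h, hh, rfl⟩ := exists_mul_of_sup_eq_top N H hsup g
    simp only [MulAut.smul_def, MulAut.conj_apply] at hy ⊢
    set y₂ := h * y₁ * h⁻¹ with hy₂
    have hy₂H : y₂ ∈ H := H.mul_mem (H.mul_mem hh hy₁) (H.inv_mem hh)
    have he : m * h * y₁ * (m * h)⁻¹ = m * y₂ * m⁻¹ := by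
      rw [hy₂]; group
    rw [he] at hy ⊢
    have h1 : m * y₂ * m⁻¹ * y₂⁻¹ = 1 := by
      apply hdisj
      · have : m * y₂ * m⁻¹ * y₂⁻¹ = m * (y₂ * m⁻¹ * y₂⁻¹) := by group
        rw [this]
        exact N.mul_mem hm (‹N.Normal›.conj_mem _ (N.inv_mem hm) _)
      · exact H.mul_mem hy (H.inv_mem hy₂H)
    have h2 : m * y₂ * m⁻¹ = y₂ := by
      rw [mul_inv_eq_one] at h1
      exact h1
    rw [h2, Subgroup.mem_bot]
    have hm1 : m ≠ 1 := by
      rintro rfl
      apply hg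
      simpa using hh
    by_contra hy1
    exact hm1 (hfpf y₂ hy₂H hy1 m hm h2)
  · ext x
    simp only [Cfsg.frobeniusKernel, Set.mem_ofPred_eq, SetLike.mem_coe]
    constructor
    · rintro (rfl | hx)
      · exact N.one_mem
      · obtain ⟨h, hh, m, hm, rfl⟩ := exists_mul_of_sup_eq_top' N H hsup x
        by_cases h1 : h = 1
        · subst h1
          simpa using hm
        · exfalso
          obtain ⟨c, -, hc⟩ := exists_conj_of_fpf N h (hfpf h hh h1) m hm
          apply hx c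
          rw [hc]
          exact Subgroup.mem_smul_pointwise_iff_exists _ _ _ |>.mpr ⟨h, hh, by simp⟩
    · intro hx
      by_cases hx1 : x = 1
      · exact Or.inl hx1
      · right
        intro g hg
        obtain ⟨y, hy, rfl⟩ := Subgroup.mem_smul_pointwise_iff_exists _ _ _ |>.mp hg
        simp only [MulAut.smul_def, MulAut.conj_apply] at hx hx1
        apply hx1
        have hyN : y ∈ N := by
          have := ‹N.Normal›.conj_mem _ hx g⁻¹
          simpa [mul_assoc] using this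
        rw [hdisj y hyN hy]
        simp

end Cfsg.Agent.Lib.Helper68
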