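import Cfsg.Agent.Lib.Helper34.BG16a
import Cfsg.Agent.Lib.Helper10.BG124b
import Cfsg.Agent.Lib.Helper23.BGT2
import Cfsg.Agent.S1417
import Cfsg.Agent.S1418

/-!
# BG Corollary 12.11 (b): context lemmas for a prime `p ∈ τ₂(M)`
-/

set_option autoImplicit false

namespace Cfsg.Agent.Lib.Helper68.BG1211

open Subgroup Cfsg
open Cfsg.Agent.Lib
open Cfsg.Agent.Lib.Helper24 Cfsg.Agent.Lib.Helper34 Cfsg.Agent.Lib.Helper31.BG11
open Cfsg.Agent.Lib.Helper34.BG13 Cfsg.Agent.Lib.Helper10.BG124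

universe u

variable {G : Type u} [Group G] [Finite G]

/-- The standing context: `p ∈ τ₂(M)`, `E` a complement of `M_σ`, `P` a Sylow `p`-subgroup of `E`,
`A ≤ P` elementary abelian of order `p²`. -/
structure Ctx (M E P A : Subgroup G) (p : ℕ) : Prop where
  min : IsMinSimpleOddOrder G
  coatom : IsCoatom M
  compl : IsComplIn E (sigmaCore M) M
  tau : p ∈ tau2 M
  syl : IsSylowIn p P E
  AP : A ≤ P
  elem : IsElementaryAbelian p A
  card : Nat.card A = p ^ 2

namespace Ctx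

variable {M E P A : Subgroup G} {p : ℕ} [hp : Fact p.Prime]

theorem PM (c : Ctx M E P A p) : IsSylowIn p P M := compl_sylow c.compl c.tau.2.1 c.syl

theorem AE (c : Ctx M E P A p) : A ≤ E := c.AP.trans c.syl.1

theorem AM (c : Ctx M E P A p) : A ≤ M := c.AE.trans c.compl.1

theorem r17 (c : Ctx M E P A p) : ExcConcl M p A :=
  Cfsg.Agent.S1417.result c.min M c.coatom p c.tau A ⟨c.AM, c.elem, c.card⟩

theorem r18 (c : Ctx M E P A p) :
    (E ≤ normalizer (A : Set G) ∧ ∀ X : Subgroup G, X ≤ E → Nat.card X = p → X ≤ A) ∧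
      (centralizer (A : Set G) ≤ M ⊓ normalizer (A : Set G) ∧ M ⊓ normalizer (A : Set G) = E ∧
        ¬ normalizer (A : Set G) ≤ M) ∧
      ∀ X : Subgroup G, X ≤ A → Nat.card X = p → sigmaCore M ⊓ centralizer (X : Set G) ≠ ⊥ →
        (centralizer (X : Set G) ≤ M ∧
          ∀ L : Subgroup G, IsCoatom L → centralizer (X : Set G) ≤ L → L = M) :=
  Cfsg.Agent.S1418.result c.min M c.coatom E c.compl p c.tau A ⟨c.AE, c.elem, c.card⟩

theorem map_eq (c : Ctx M E P A p) :
    ((c.PM.toSylow : Sylow p M) : Subgroup M).map M.subtype = P := by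
  rw [IsSylowIn.coe_toSylow]
  exact map_subgroupOf_eq_of_le c.PM.1

theorem comm (c : Ctx M E P A p) : P ≤ centralizer (P : Set G) := by
  have hc := (c.r17.2.1 c.PM.toSylow).1
  intro a ha
  rw [mem_centralizer_iff]
  intro b hb
  have h1 := hc.is_comm.comm ⟨⟨b, c.PM.1 hb⟩, mem_subgroupOf.2 hb⟩
    ⟨⟨a, c.PM.1 ha⟩, mem_subgroupOf.2 ha⟩
  exact congrArg Subtype.val (congrArg Subtype.val h1)

theorem omega (c : Ctx M E P A p) : ∀ x ∈ P, x ^ p = 1 ↔ x ∈ A := by
  have h := ((c.r17.2.1 c.PM.toSylow).2 (by rw [c.map_eq]; exact c.AP)).1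
  rw [c.map_eq] at h
  exact h

theorem norm_not_le (c : Ctx M E P A p) : ¬ normalizer (P : Set G) ≤ M := by
  have h := ((c.r17.2.1 c.PM.toSylow).2 (by rw [c.map_eq]; exact c.AP)).2
  rw [c.map_eq] at h
  exact h

theorem nilp (c : Ctx M E P A p) : Group.IsNilpotent (sigmaCore M) := c.r17.1

theorem fpfA (c : Ctx M E P A p) : sigmaCore M ⊓ centralizer (A : Set G) = ⊥ := c.r17.2.2.2.1

theorem ti (c : Ctx M E P A p) {L : Subgroup G} (hL : IsCoatom L) (hne : L ≠ M) (hAL : A ≤ L) :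
    sigmaCore M ⊓ L = ⊥ := c.r17.2.2.2.2.1 L hL hne hAL

theorem exists_fpf (c : Ctx M E P A p) : ∃ A₁ : Subgroup G, A₁ ≤ A ∧ Nat.card A₁ = p ∧
    sigmaCore M ⊓ centralizer (A₁ : Set G) = ⊥ := c.r17.2.2.2.2.2

theorem E_norm (c : Ctx M E P A p) : E ≤ normalizer (A : Set G) := c.r18.1.1

theorem lines (c : Ctx M E P A p) {X : Subgroup G} (hX : X ≤ E) (hc : Nat.card X = p) : X ≤ A :=
  c.r18.1.2 X hX hc

theorem cent_le (c : Ctx M E P A p) : centralizer (A : Set G) ≤ E := by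
  have h := c.r18.2.1.1
  rwa [c.r18.2.1.2.1] at h

theorem pg (c : Ctx M E P A p) : IsPGroup p P := c.syl.2.1

theorem p_dvd (c : Ctx M E P A p) : p ∣ Nat.card M := by
  have : p ∣ Nat.card A := by rw [c.card]; exact dvd_pow_self p two_ne_zero
  exact this.trans (card_dvd_of_le c.AM)

theorem p_ne_two (c : Ctx M E P A p) : p ≠ 2 := MS_prime_ne_two c.min c.p_dvd

theorem sc_ne_bot (c : Ctx M E P A p) : sigmaCore M ≠ ⊥ :=
  Helper23T.sc_ne_bot c.min (ut c.min) c.coatom

theorem line_ne_bot {X : Subgroup G} (hc : Nat.card X = p) : X ≠ ⊥ := by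
  rintro rfl
  rw [card_bot] at hc
  exact hp.out.one_lt.ne hc

theorem line_pg {X : Subgroup G} (hc : Nat.card X = p) : IsPGroup p X :=
  IsPGroup.of_card (n := 1) (by rw [hc, pow_one])

/-- A line of `A` with a fixed point on `M_σ` has its normalizer in `M`. -/
theorem norm_line_le (c : Ctx M E P A p) {X : Subgroup G} (hXA : X ≤ A) (hc : Nat.card X = p)
    (hX : sigmaCore M ⊓ centralizer (X : Set G) ≠ ⊥) : normalizer (X : Set G) ≤ M := by
  obtain ⟨-, h2⟩ := c.r18.2.2 X hXA hc hX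
  have hne : normalizer (X : Set G) ≠ ⊤ :=
    MS_normalizer_ne_top c.min (line_ne_bot hc) (MS_isPGroup_ne_top c.min (line_pg hc))
  obtain ⟨L, hL, hle⟩ := (eq_top_or_exists_le_coatom (normalizer (X : Set G))).resolve_left hne
  have := h2 L hL ((centralizer_le_normalizer (X : Set G)).trans hle)
  rwa [this] at hle

/-- A line of `A` normalized by `N_G(P)` acts regularly on `M_σ`. -/
theorem fpf_of_norm (c : Ctx M E P A p) {X : Subgroup G} (hXA : X ≤ A) (hc : Nat.card X = p)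
    (hN : normalizer (P : Set G) ≤ normalizer (X : Set G)) :
    sigmaCore M ⊓ centralizer (X : Set G) = ⊥ := by
  by_contra h
  exact c.norm_not_le (hN.trans (c.norm_line_le hXA hc h))

/-- `N_G(P) ≤ N_G(A)`. -/
theorem normP_le_normA (c : Ctx M E P A p) : normalizer (P : Set G) ≤ normalizer (A : Set G) := by
  apply le_normalizer_of_forall_cj_le
  intro g hg a ha
  obtain ⟨b, hb, rfl⟩ := ha
  have hbP : (MulAut.conj g).toMonoidHom b ∈ P := by
    have := (mem_normalizer_iff.1 hg b).1 (c.AP hb)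
    simpa using this
  rw [← c.omega _ hbP, ← map_pow, c.elem.2 b hb, map_one]

end Ctx

end Cfsg.Agent.Lib.Helper68.BG1211
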