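import Cfsg.Agent.Lib.Helper68.BG1211a

/-!
# BG Corollary 12.11 (b): elements of `τ₂(M)`-order centralize `A`
-/

set_option autoImplicit false

namespace Cfsg.Agent.Lib.Helper68.BG1211

open Subgroup Cfsg
open Cfsg.Agent.Lib
open Cfsg.Agent.Lib.Helper24 Cfsg.Agent.Lib.Helper34 Cfsg.Agent.Lib.Helper31.BG11
open Cfsg.Agent.Lib.Helper34.BG13 Cfsg.Agent.Lib.Helper10.BG124

universe u

variable {G : Type u} [Group G] [Finite G]

theorem not_dvd_card_of_isPGroup {p r : ℕ} [hp : Fact p.Prime] [hr : Fact r.Prime] (hpr : p ≠ r)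
    {Z : Subgroup G} (hZ : IsPGroup r Z) : ¬ p ∣ Nat.card Z := by
  intro hd
  obtain ⟨k, hk⟩ := IsPGroup.iff_card.1 hZ
  rw [hk] at hd
  exact hpr ((Nat.prime_dvd_prime_iff_eq hp.out hr.out).1 (hp.out.dvd_of_dvd_pow hd))

/-- two primes of `σ(L)`, the first one not ideal. -/
theorem cent_of_sigma_sigma (hG : IsMinSimpleOddOrder G) {L X Z : Subgroup G} {p r : ℕ}
    [Fact p.Prime] [Fact r.Prime] (hL : IsCoatom L) (hp : p ∈ sigma L) (hr : r ∈ sigma L)
    (hpr : p ≠ r) (hid : ¬ IsIdealPrime p G) (hXL : X ≤ L) (hX : IsPGroup p X) (hZL : Z ≤ L)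
    (hZ : IsPGroup r Z) (hZX : Z ≤ normalizer (X : Set G)) : Z ≤ centralizer (X : Set G) := by
  have hc := h1414 hG L hL p Fact.out hp.2.1 (fun hb => hid hb.2)
  have h := comm_eq_bot_of_normalPComplement (sc_norm L) hc hXL hX (le_sc hG (ut hG) hL hr hZL hZ)
    (not_dvd_card_of_isPGroup hpr hZ) hZX
  exact le_centralizer_iff.1 (commutator_eq_bot_iff_le_centralizer.1 h)

theorem not_rank_one_of_le {L A : Subgroup G} {p : ℕ} [hp : Fact p.Prime] (hAL : A ≤ L)
    (hA : IsElementaryAbelian p A) (hc : Nat.card A = p ^ 2) : ¬ PRankLE p 1 L := by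
  intro h
  have h1 := (pRankLE_iff L).1 h A hAL hA.1 hA.2
  rw [hc, pow_one] at h1
  have := hp.out.one_lt
  nlinarith

/-- if `A ≤ L` has type `(p,p)` then `p ∈ σ(L)` or `p ∈ τ₂(L)`. -/
theorem sigma_or_tau2 (hG : IsMinSimpleOddOrder G) {L A : Subgroup G} {p : ℕ} [hp : Fact p.Prime]
    (hL : IsCoatom L) (hAL : A ≤ L) (hA : IsElementaryAbelian p A) (hc : Nat.card A = p ^ 2) :
    p ∈ sigma L ∨ p ∈ tau2 L := by
  by_cases h : p ∈ sigma L
  · exact Or.inl h
  · exact Or.inr ⟨hp.out, h, Helper23T.rank2_of_not_sigma hG (ut hG) hL hp.out h,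
      not_rank_one_of_le hAL hA hc⟩

/-- a maximal subgroup containing `N_G(A)`, `A` of type `(p,p)`, has `p ∈ σ(L)`. -/
theorem mem_sigma_of_norm_le (hG : IsMinSimpleOddOrder G) {L A : Subgroup G} {p : ℕ}
    [hp : Fact p.Prime] (hL : IsCoatom L) (hA : IsElementaryAbelian p A) (hc : Nat.card A = p ^ 2)
    (hN : normalizer (A : Set G) ≤ L) : p ∈ sigma L := by
  have hAL : A ≤ L := le_normalizer.trans hN
  rcases sigma_or_tau2 hG hL hAL hA hc with h | h
  · exact h
  · exfalso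
    obtain ⟨E', hE', hAE'⟩ := exists_compl_ge hG (ut hG) hL hAL
      (Helper23T.primes_of_pgroup (isPGroup_of_exponent hA.2) h.2.1)
    exact (Cfsg.Agent.S1418.result hG L hL E' hE' p h A ⟨hAE', hA, hc⟩).2.1.2.2 hN

namespace Ctx

variable {M E P A : Subgroup G} {p : ℕ} [hp : Fact p.Prime]

theorem not_ideal (c : Ctx M E P A p) : ¬ IsIdealPrime p G :=
  sigma'_rank2_not_ideal c.min (ut c.min) c.coatom c.tau.2.1 c.tau.2.2.1 c.tau.2.2.2

theorem Apg (c : Ctx M E P A p) : IsPGroup p A := isPGroup_of_exponent c.elem.2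

theorem A_ne_bot (c : Ctx M E P A p) : A ≠ ⊥ := by
  intro h
  have := c.card
  rw [h, card_bot] at this
  have h2 := hp.out.one_lt
  nlinarith

theorem normA_ne_top (c : Ctx M E P A p) : normalizer (A : Set G) ≠ ⊤ :=
  MS_normalizer_ne_top c.min c.A_ne_bot (MS_isPGroup_ne_top c.min c.Apg)

/-- existence of a context over a given `r`-subgroup of `E`. -/
theorem exists_ctx (hG : IsMinSimpleOddOrder G) (hM : IsCoatom M)
    (hE : IsComplIn E (sigmaCore M) M) (hτ : p ∈ tau2 M) {Z : Subgroup G} (hZE : Z ≤ E)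
    (hZ : IsPGroup p Z) : ∃ R B : Subgroup G, Ctx M E R B p ∧ Z ≤ R := by
  obtain ⟨R, hR, hZR⟩ := exists_isSylowIn_ge hZE hZ
  obtain ⟨B₀, hB₀M, hB₀e, hB₀c⟩ := exists_elemAb_sq hτ.2.2.1 hτ.2.2.2
  have hRM := compl_sylow hE hτ.2.1 hR
  obtain ⟨m, -, hle⟩ := hRM.exists_conj_le hB₀M (isPGroup_of_exponent hB₀e.2)
  refine ⟨R, cj m B₀, ⟨hG, hM, hE, hτ, hR, hle, ?_, by rw [card_map_conj, hB₀c]⟩, hZR⟩
  exact (E2.cj (p := p) (A := B₀) ⟨hB₀e, hB₀c, fun B hB hle => by
    exact sigma'_rank2_max hG (ut hG) hM hτ.2.1 hB₀M hB₀e hB₀c hB hle⟩ m).elem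

/-- `A_p` and `A_r` centralize each other. -/
theorem cent_cross (c : Ctx M E P A p) {R B : Subgroup G} {r : ℕ} [Fact r.Prime]
    (c' : Ctx M E R B r) (hne : p ≠ r) : B ≤ centralizer (A : Set G) := by
  have h1 : ⁅A, B⁆ ≤ A ⊓ B := le_inf
    (le_normalizer_iff_commutator_le_left.1 (c'.AE.trans c.E_norm))
    (le_normalizer_iff_commutator_le_right.1 (c.AE.trans c'.E_norm))
  have h2 : A ⊓ B = ⊥ := by
    rw [← card_eq_one]
    by_contra h
    obtain ⟨q, hq, hqd⟩ := Nat.exists_prime_and_dvd h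
    have e1 := Helper22.primes_of_isPGroup Fact.out c.Apg q hq (hqd.trans (card_dvd_of_le inf_le_left))
    have e2 := Helper22.primes_of_isPGroup Fact.out c'.Apg q hq
      (hqd.trans (card_dvd_of_le inf_le_right))
    exact hne (e1.symm.trans e2)
  rw [h2, le_bot_iff] at h1
  exact le_centralizer_iff.1 (commutator_eq_bot_iff_le_centralizer.1 h1)

theorem norm_le_norm (c : Ctx M E P A p) {R B : Subgroup G} {r : ℕ} [hr : Fact r.Prime]
    (c' : Ctx M E R B r) (hne : p ≠ r) : normalizer (A : Set G) ≤ normalizer (B : Set G) := by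
  apply le_normalizer_of_forall_cj_le
  intro g hg x hx
  obtain ⟨b, hb, rfl⟩ := hx
  set x := (MulAut.conj g).toMonoidHom b with hxdef
  by_cases hx1 : x = 1
  · rw [hx1]; exact one_mem _
  have hxr : x ^ r = 1 := by rw [hxdef, ← map_pow, c'.elem.2 b hb, map_one]
  have hxC : x ∈ centralizer (A : Set G) := by
    have h1 : x ∈ cj g (centralizer (A : Set G)) := ⟨b, c.cent_cross c' hne hb, rfl⟩
    have h2 : cj g (centralizer (A : Set G)) = centralizer (A : Set G) :=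
      map_conj_eq_self_of_mem_normalizer (normalizer_le_normalizer_centralizer A hg)
    rwa [h2] at h1
  have hcard : Nat.card (zpowers x) = r := by
    rw [Nat.card_zpowers]; exact orderOf_eq_prime hxr hx1
  exact c'.lines (zpowers_le.2 (c.cent_le hxC)) hcard (mem_zpowers x)

/-- elements of `E` of order a power of `r ∈ τ₂(M)`, `r ≠ p`, centralize `A`. -/
theorem cent_of_tau2 (c : Ctx M E P A p) {r : ℕ} [hr : Fact r.Prime] (hτ : r ∈ tau2 M)
    (hne : p ≠ r) {Z : Subgroup G} (hZE : Z ≤ E) (hZ : IsPGroup r Z) :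
    Z ≤ centralizer (A : Set G) := by
  obtain ⟨R, B, c', -⟩ := exists_ctx c.min c.coatom c.compl hτ hZE hZ
  obtain ⟨L, hL, hle⟩ := (eq_top_or_exists_le_coatom (normalizer (A : Set G))).resolve_left
    c.normA_ne_top
  have hpL := mem_sigma_of_norm_le c.min hL c.elem c.card hle
  have hrL := mem_sigma_of_norm_le c.min hL c'.elem c'.card ((c'.norm_le_norm c hne.symm).trans hle)
  exact cent_of_sigma_sigma c.min hL hpL hrL hne c.not_ideal (le_normalizer.trans hle) c.Apg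
    ((hZE.trans c.E_norm).trans hle) hZ (hZE.trans c.E_norm)

end Ctx

end Cfsg.Agent.Lib.Helper68.BG1211
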