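import Cfsg.Agent.Lib.Helper31.BG11a
import Cfsg.Agent.Lib.Helper24.Rank2Main
import Cfsg.Agent.Lib.Helper66.AbelianIndec
import Cfsg.Agent.Lib.Helper59.BG1211Q3
import Cfsg.Agent.Lib.Helper59.BG1211Q4
import Cfsg.Agent.Lib.Helper59.BG1211Q6
import Cfsg.Agent.Lib.Helper65.BG1211Q1
import Cfsg.Agent.Lib.Helper65.BG1211Q2
import Cfsg.Agent.Lib.Helper1.BG1211Q5

set_option autoImplicit false

namespace Cfsg.Agent.Lib.Helper68.BG1211farm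

open Subgroup Cfsg
open Cfsg.Agent.Lib
open Cfsg.Agent.Lib.Helper24 Cfsg.Agent.Lib.Helper34 Cfsg.Agent.Lib.Helper31.BG11

universe u

variable {G : Type u} [Group G] [Finite G]

/-- (Q1) -/
theorem exists_invariant_cyclic {p : ℕ} [Fact p.Prime] {P H A₁ : Subgroup G} (hP : IsPGroup p P)
    (hPab : P ≤ centralizer (P : Set G)) (hH : H ≤ normalizer (P : Set G))
    (hcop : (Nat.card H).Coprime p) (e : ℕ) (hexp : ∀ x ∈ P, x ^ p ^ (e + 1) = 1)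
    (hA₁ : Nat.card A₁ = p) (hA₁P : ∀ a ∈ A₁, ∃ x ∈ P, x ^ p ^ e = a)
    (hHA₁ : H ≤ normalizer (A₁ : Set G)) :
    ∃ C : Subgroup G, C ≤ P ∧ IsCyclic C ∧ Nat.card C = p ^ (e + 1) ∧ A₁ ≤ C ∧
      H ≤ normalizer (C : Set G) :=
  Helper65.BG1211.exists_invariant_cyclic hP hPab hH hcop e hexp hA₁ hA₁P hHA₁

/-- (Q2) -/
theorem exists_cut {p : ℕ} [Fact p.Prime] {V P C Y : Subgroup G} (hP : IsSylowIn p P V)
    (hYV : Y ≤ V) (hVY : V ≤ normalizer (Y : Set G)) (hY : (Nat.card Y).Coprime p)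
    (hfr : ∀ v ∈ V, ∃ y ∈ Y, ∃ n ∈ V ⊓ normalizer (P : Set G), v = y * n)
    (hC : C ≤ P) (hN : V ⊓ normalizer (P : Set G) ≤ normalizer (C : Set G)) :
    ∃ V' : Subgroup G, V' ≤ V ∧ IsSylowIn p C V' ∧
      ∀ r : ℕ, r.Prime → r ≠ p → ¬ r ∣ V'.relIndex V :=
  Helper65.BG1211.exists_cut hP hYV hVY hY hfr hC hN

/-- (Q3) -/
theorem exponent_eq_of_cut {p : ℕ} [Fact p.Prime] {V V' P C : Subgroup G} (hle : V' ≤ V)
    (hr : ∀ r : ℕ, r.Prime → r ≠ p → ¬ r ∣ V'.relIndex V) (hP : IsSylowIn p P V)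
    (hCV : C ≤ V') (hCc : IsCyclic C) (hexp : ∀ x ∈ P, x ^ Nat.card C = 1) :
    Monoid.exponent V' = Monoid.exponent V :=
  Helper59.BG1211Q3.exponent_eq_of_cut hle hr hP hCV hCc hexp

/-- (Q4) -/
theorem pow_eq_one_of_two_fpf {A : Subgroup G} (hA : A ≤ centralizer (A : Set G)) {r : ℕ}
    (hr : r.Prime) {s t : G} (hs : s ∈ normalizer (A : Set G)) (ht : t ∈ normalizer (A : Set G))
    (hst : s * t = t * s) (hsr : s ^ r ∈ centralizer (A : Set G))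
    (htr : t ^ r ∈ centralizer (A : Set G)) (hft : A ⊓ centralizer {t} = ⊥)
    (hfs : ∀ j : ℕ, A ⊓ centralizer {s * t ^ j} = ⊥) : ∀ a ∈ A, a ^ r = 1 :=
  Helper59.BG1211Q4.pow_eq_one_of_two_fpf hA hr hs ht hst hsr htr hft hfs

/-- (Q5) -/
theorem line_or_abelian {p : ℕ} [Fact p.Prime] (hp2 : p ≠ 2) {A Γ : Subgroup G}
    (hA : IsElementaryAbelian p A) (hcard : Nat.card A = p ^ 2)
    (hΓ : Γ ≤ normalizer (A : Set G)) (hodd : Odd (Nat.card Γ)) (hsolv : Group.IsSolvable Γ) :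
    (∃ A₁ : Subgroup G, A₁ ≤ A ∧ Nat.card A₁ = p ∧ Γ ≤ normalizer (A₁ : Set G)) ∨
      ⁅Γ, Γ⁆ ≤ centralizer (A : Set G) :=
  Helper1.BG1211.line_or_abelian hp2 hA hcard hΓ hodd hsolv

/-- (Q6) -/
theorem mem_of_primary {H : Subgroup G} {y : G}
    (h : ∀ z ∈ zpowers y, (∃ (r k : ℕ), r.Prime ∧ orderOf z = r ^ k) → z ∈ H) : y ∈ H :=
  Helper59.BG1211Q6.mem_of_primary h

end Cfsg.Agent.Lib.Helper68.BG1211farm
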