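import Cfsg.Agent.Lib.Helper68.BG1211b
import Cfsg.Agent.Lib.Helper68.BG1211farm
import Cfsg.Agent.Lib.Helper88.BG11P1
import Cfsg.Agent.Lib.Helper96.BG11P12
import Cfsg.Agent.S0026

/-!
# BG Corollary 12.11 (b): the irreducible case
-/

set_option autoImplicit false

namespace Cfsg.Agent.Lib.Helper68.BG1211

open Subgroup Cfsg
open Cfsg.Agent.Lib
open Cfsg.Agent.Lib.Helper24 Cfsg.Agent.Lib.Helper34 Cfsg.Agent.Lib.Helper31.BG11
open Cfsg.Agent.Lib.Helper34.BG13 Cfsg.Agent.Lib.Helper10.BG124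
open Cfsg.Agent.Lib.Helper68.BG1211farm
open scoped commutatorElement

universe u

variable {G : Type u} [Group G] [Finite G]

/-- no line of `A` is normalized by `N_G(P)`. -/
def Irr (P A : Subgroup G) (p : ℕ) : Prop :=
  ∀ A₁ : Subgroup G, A₁ ≤ A → Nat.card A₁ = p → ¬ normalizer (P : Set G) ≤ normalizer (A₁ : Set G)

namespace Ctx

variable {M E P A : Subgroup G} {p : ℕ} [hp : Fact p.Prime]

theorem P_ne_bot (c : Ctx M E P A p) : P ≠ ⊥ := fun h => c.A_ne_bot (le_bot_iff.1 (h ▸ c.AP))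

theorem normP_ne_top (c : Ctx M E P A p) : normalizer (P : Set G) ≠ ⊤ :=
  MS_normalizer_ne_top c.min c.P_ne_bot (MS_isPGroup_ne_top c.min c.pg)

theorem comm_le (c : Ctx M E P A p) (h : Irr P A p) :
    ⁅normalizer (P : Set G), normalizer (P : Set G)⁆ ≤ centralizer (A : Set G) :=
  (line_or_abelian c.p_ne_two c.elem c.card c.normP_le_normA (MS_odd c.min _)
    (MS_solvable c.min c.normP_ne_top)).resolve_left (fun ⟨A₁, h1, h2, h3⟩ => h A₁ h1 h2 h3)

theorem inv_sub (c : Ctx M E P A p) (h : Irr P A p) {D : Subgroup G} (hDA : D ≤ A)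
    (hD : normalizer (P : Set G) ≤ normalizer (D : Set G)) : D = ⊥ ∨ D = A := by
  have h1 : Nat.card D ∣ p ^ 2 := c.card ▸ card_dvd_of_le hDA
  obtain ⟨k, hk, hkc⟩ := (Nat.dvd_prime_pow hp.out).1 h1
  interval_cases k
  · left; rw [pow_zero] at hkc; exact card_eq_one.1 hkc
  · rw [pow_one] at hkc; exact absurd hD (h D hDA hkc)
  · right
    exact eq_of_le_of_card_ge hDA (by rw [hkc, c.card])

/-- an element of `N_G(P)` either centralizes `A` or acts regularly on it. -/
theorem dich (c : Ctx M E P A p) (h : Irr P A p) {d : G} (hd : d ∈ normalizer (P : Set G)) :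
    A ⊓ centralizer {d} = ⊥ ∨ d ∈ centralizer (A : Set G) := by
  have hinv : normalizer (P : Set G) ≤ normalizer ((A ⊓ centralizer {d} : Subgroup G) : Set G) := by
    apply le_normalizer_of_forall_cj_le
    rintro n hn _ ⟨a, ha, rfl⟩
    have haA := (mem_inf.1 ha).1
    have had : a * d = d * a := mem_centralizer_singleton_iff.1 (mem_inf.1 ha).2
    refine mem_inf.2 ⟨?_, ?_⟩
    · have := (mem_normalizer_iff.1 (c.normP_le_normA hn) a).1 haA
      simpa using this
    · rw [mem_centralizer_singleton_iff]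
      have hc0 : ⁅n⁻¹, d⁆ ∈ centralizer (A : Set G) :=
        c.comm_le h (commutator_mem_commutator (inv_mem hn) hd)
      have hc1 : a * ⁅n⁻¹, d⁆ = ⁅n⁻¹, d⁆ * a := mem_centralizer_iff.1 hc0 a haA
      have e1 : n⁻¹ * d * n = ⁅n⁻¹, d⁆ * d := by
        simp [commutatorElement_def]
      have e2 : a * (n⁻¹ * d * n) = (n⁻¹ * d * n) * a := by
        rw [e1, ← mul_assoc, hc1, mul_assoc, had, mul_assoc]
      have e3 : n * (a * (n⁻¹ * d * n)) * n⁻¹ = n * ((n⁻¹ * d * n) * a) * n⁻¹ := by rw [e2]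
      simp only [MulEquiv.coe_toMonoidHom, MulAut.conj_apply]
      calc n * a * n⁻¹ * d = n * (a * (n⁻¹ * d * n)) * n⁻¹ := by group
        _ = n * ((n⁻¹ * d * n) * a) * n⁻¹ := e3
        _ = d * (n * a * n⁻¹) := by group
  rcases c.inv_sub h inf_le_left hinv with h1 | h1
  · exact Or.inl h1
  · right
    rw [mem_centralizer_iff]
    intro a ha
    have : a ∈ A ⊓ centralizer {d} := by rw [h1]; exact ha
    exact mem_centralizer_singleton_iff.1 (mem_inf.1 this).2

/-- in the irreducible case `P` is a maximal `p`-subgroup of `G`. -/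
theorem maxP (c : Ctx M E P A p) (h : Irr P A p) {Q : Subgroup G} (hQ : IsPGroup p Q)
    (hPQ : P ≤ Q) : Q = P := by
  by_contra hne
  have hlt : P < Q := lt_of_le_of_ne hPQ (Ne.symm hne)
  obtain ⟨t, htQ, htN, htP⟩ := exists_mem_normalizer_not_mem hQ.isNilpotent hlt
  have hQ1 : Q ≠ ⊥ := fun hb => c.P_ne_bot (le_bot_iff.1 (hb ▸ hPQ))
  obtain ⟨z, hzQ, hzC, hz1, hzp⟩ := exists_central_order_p hQ hQ1
  have hzA : z ∈ A := by
    have hzCA : z ∈ centralizer (A : Set G) :=
      centralizer_le (show (A : Set G) ⊆ Q from fun x hx => hPQ (c.AP hx)) hzC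
    have hcard : Nat.card (zpowers z) = p := by
      rw [Nat.card_zpowers]; exact orderOf_eq_prime hzp hz1
    exact c.lines (zpowers_le.2 (c.cent_le hzCA)) hcard (mem_zpowers z)
  have htC : t ∈ centralizer (A : Set G) := by
    rcases c.dich h htN with h1 | h1
    · exfalso
      have : z ∈ A ⊓ centralizer {t} :=
        mem_inf.2 ⟨hzA, mem_centralizer_singleton_iff.2 ((mem_centralizer_iff.1 hzC t htQ).symm)⟩
      rw [h1, mem_bot] at this
      exact hz1 this
    · exact h1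
  have h2 : IsPGroup p (P ⊔ zpowers t : Subgroup G) :=
    Helper22.isPGroup_sup (zpowers_le.2 htN) c.pg (hQ.to_le (zpowers_le.2 htQ))
  have h3 := c.syl.eq_of_le (sup_le c.syl.1 (zpowers_le.2 (c.cent_le htC))) h2 le_sup_left
  exact htP (h3 ▸ mem_sup_right (mem_zpowers t))

end Ctx

end Cfsg.Agent.Lib.Helper68.BG1211
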