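import Cfsg.Agent.Lib.Helper68.BG1211c

/-!
# BG Corollary 12.11 (b): the irreducible case, `N_V(P)` centralizes `A`
-/

set_option autoImplicit false

namespace Cfsg.Agent.Lib.Helper68.BG1211

open Subgroup Cfsg
open Cfsg.Agent.Lib
open Cfsg.Agent.Lib.Helper24 Cfsg.Agent.Lib.Helper34 Cfsg.Agent.Lib.Helper31.BG11
open Cfsg.Agent.Lib.Helper34.BG13 Cfsg.Agent.Lib.Helper10.BG124
open Cfsg.Agent.Lib.Helper68.BG1211farm

universe u

variable {G : Type u} [Group G] [Finite G]

omit [Finite G] in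
theorem isPGroup_zpowers_of_pow {r k : ℕ} {z : G} (hz : z ^ r ^ k = 1) :
    IsPGroup r (zpowers z) := by
  rintro ⟨g, hg⟩
  obtain ⟨n, rfl⟩ := mem_zpowers_iff.1 hg
  refine ⟨k, Subtype.ext ?_⟩
  show (z ^ n) ^ r ^ k = 1
  rw [← zpow_natCast, ← zpow_mul, mul_comm, zpow_mul, zpow_natCast, hz, one_zpow]

namespace Ctx

variable {M E P A : Subgroup G} {p : ℕ} [hp : Fact p.Prime]

theorem not_dvd_sc (c : Ctx M E P A p) {r : ℕ} (hr : r.Prime) (hd : r ∣ Nat.card E) :
    ¬ r ∣ Nat.card (sigmaCore M) := fun h =>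
  compl_not_sigma c.min (ut c.min) c.coatom c.compl hr hd (sc_primes M hr h)

/-- an element of order `r ≠ p` of `E ∩ N(P)` which is regular on `M_σ` centralizes `A`. -/
theorem cent_of_regular (c : Ctx M E P A p) (h : Irr P A p) {r : ℕ} [hr : Fact r.Prime]
    (hne : p ≠ r) {y : G} (hyE : y ∈ E) (hyN : y ∈ normalizer (P : Set G)) (hy : orderOf y = r)
    (hreg : sigmaCore M ⊓ centralizer {y} = ⊥) : y ∈ centralizer (A : Set G) := by
  rcases c.dich h hyN with h1 | h1
  swap
  · exact h1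
  exfalso
  have hYc : Nat.card (zpowers y) = r := by rw [Nat.card_zpowers, hy]
  have hcent : centralizer ((zpowers y : Subgroup G) : Set G) = centralizer {y} :=
    Helper22.centralizer_zpowers y
  have hYE : zpowers y ≤ E := zpowers_le.2 hyE
  have hYA : zpowers y ≤ normalizer (A : Set G) := hYE.trans c.E_norm
  have hrE : r ∣ Nat.card E := hYc ▸ card_dvd_of_le hYE
  have hpE : p ∣ Nat.card E := by
    have : p ∣ Nat.card A := by rw [c.card]; exact dvd_pow_self p two_ne_zero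
    exact this.trans (card_dvd_of_le c.AE)
  have h2 : ⁅A, zpowers y⁆ ≤ centralizer (sigmaCore M : Set G) :=
    Helper88.BG11P1.gen_centralize (MS_odd c.min ⊤ |> fun h => by simpa using h) hr.out hp.out
      hne.symm c.nilp hYc c.Apg ((hYE.trans c.compl.1).trans (sc_norm M))
      (c.AM.trans (sc_norm M)) hYA (c.not_dvd_sc hr.out hrE) (c.not_dvd_sc hp.out hpE)
      (by rw [hcent]; exact hreg)
  have h3 := Cfsg.Agent.S0026.result (zpowers y) A hYA (by
    rw [hYc, c.card]
    exact Nat.Coprime.pow_right 2 ((Nat.coprime_primes hr.out hp.out).2 hne.symm))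
    (Or.inr (MS_solvable c.min (MS_isPGroup_ne_top c.min c.Apg)))
  rw [hcent, h1, sup_bot_eq] at h3
  rw [h3] at h2
  have h4 : sigmaCore M ≤ centralizer (A : Set G) := le_centralizer_iff.1 h2
  have h5 := c.fpfA
  rw [inf_eq_left.2 h4] at h5
  exact c.sc_ne_bot h5

/-- case (3): `r ∈ τ₂(L)`, `p ∈ σ(L)`. -/
theorem case3 (c : Ctx M E P A p) (h : Irr P A p) {r : ℕ} [hr : Fact r.Prime]
    (hr1 : PRankLE r 1 M) (hne : p ≠ r) {z y : G} (hzE : z ∈ E) {k : ℕ} (hz : z ^ r ^ k = 1)
    (hzC : z ∉ centralizer (A : Set G)) (hyz : y ∈ zpowers z) (hy : orderOf y = r)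
    (hyC : y ∈ centralizer (A : Set G)) {L : Subgroup G} (hL : IsCoatom L) (hPL : P ≤ L)
    (hzL : z ∈ L) (hrτ : r ∈ tau2 L) (hpL : p ∈ sigma L) : False := by
  have hZpg : IsPGroup r (zpowers z) := isPGroup_zpowers_of_pow hz
  obtain ⟨E', hE', hzE'⟩ := exists_compl_ge c.min (ut c.min) hL (zpowers_le.2 hzL)
    (Helper23T.primes_of_pgroup hZpg hrτ.2.1)
  obtain ⟨R, B, c', hzR⟩ := exists_ctx c.min hL hE' hrτ hzE' hZpg
  have hPσ : P ≤ sigmaCore L := le_sc c.min (ut c.min) hL hpL hPL c.pg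
  obtain ⟨Q, hQ, hPQ⟩ := exists_isSylowIn_ge hPσ c.pg
  have hQP : Q = P := c.maxP h hQ.2.1 hPQ
  subst hQP
  have hLN : L ≤ normalizer (Q : Set G) := le_normalizer_of_sylow_nilpotent (sc_norm L) c'.nilp hQ
  -- an element of `B` not centralizing `A`
  have hb : ∃ b ∈ B, b ∉ centralizer (A : Set G) := by
    by_contra hcon
    push Not at hcon
    have h1 : A ≤ sigmaCore L ⊓ centralizer (B : Set G) :=
      le_inf (c.AP.trans hPσ) (le_centralizer_iff.1 hcon)
    rw [c'.fpfA] at h1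
    exact c.A_ne_bot (le_bot_iff.1 h1)
  obtain ⟨b, hbB, hbC⟩ := hb
  have hBL : B ≤ L := c'.AM
  have hft : A ⊓ centralizer {b} = ⊥ := (c.dich h (hLN (hBL hbB))).resolve_right hbC
  -- the last power of `z` not centralizing `A`
  have hex : ∃ m, z ^ r ^ m ∈ centralizer (A : Set G) := ⟨k, by rw [hz]; exact one_mem _⟩
  classical
  have hN0 : Nat.find hex ≠ 0 := by
    intro h0
    have := Nat.find_spec hex
    rw [h0, pow_zero, pow_one] at this
    exact hzC this
  obtain ⟨m, hm⟩ := Nat.exists_eq_succ_of_ne_zero hN0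
  have hsC : z ^ r ^ m ∉ centralizer (A : Set G) := Nat.find_min hex (by omega)
  have hsr : (z ^ r ^ m) ^ r ∈ centralizer (A : Set G) := by
    have := Nat.find_spec hex
    rwa [hm, Nat.succ_eq_add_one, pow_succ, pow_mul] at this
  set s := z ^ r ^ m with hs
  have hzRm : z ∈ R := hzR (mem_zpowers z)
  have hsR : s ∈ R := pow_mem hzRm _
  have hsE : s ∈ E := pow_mem hzE _
  have hsL : s ∈ L := pow_mem hzL _
  have hst : s * b = b * s := (mem_centralizer_iff.1 (c'.comm hsR) b (c'.AP hbB)).symm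
  -- `B ∩ M = ⟨y⟩`
  have hyR : y ∈ R := hzR hyz
  have hyr : y ^ r = 1 := by rw [← hy]; exact pow_orderOf_eq_one y
  have hyB : y ∈ B := (c'.omega y hyR).1 hyr
  have hyM : y ∈ M := c.compl.1 (zpowers_le.2 hzE hyz)
  have hD : zpowers y = B ⊓ M := by
    apply eq_of_le_of_card_ge (zpowers_le.2 (mem_inf.2 ⟨hyB, hyM⟩))
    have h1 := (pRankLE_iff M).1 hr1 (B ⊓ M) inf_le_right
      ⟨⟨fun x y => Subtype.ext (show x.1 * y.1 = y.1 * x.1 from
        congrArg Subtype.val (c'.elem.1.is_comm.comm ⟨x.1, (mem_inf.1 x.2).1⟩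
          ⟨y.1, (mem_inf.1 y.2).1⟩))⟩⟩
      (fun a ha => c'.elem.2 a (mem_inf.1 ha).1)
    rw [Nat.card_zpowers, hy]
    simpa using h1
  have hfs : ∀ j : ℕ, A ⊓ centralizer {s * b ^ j} = ⊥ := by
    intro j
    refine (c.dich h (hLN (mul_mem hsL (pow_mem (hBL hbB) j)))).resolve_right ?_
    intro hC
    have h1 : s * b ^ j ∈ E := c.cent_le hC
    have h2 : b ^ j ∈ E := by
      have := mul_mem (inv_mem hsE) h1
      simpa using this
    have h3 : b ^ j ∈ zpowers y := by
      rw [hD]; exact mem_inf.2 ⟨pow_mem hbB j, c.compl.1 h2⟩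
    have h4 : b ^ j ∈ centralizer (A : Set G) := zpowers_le.2 hyC h3
    have := mul_mem hC (inv_mem h4)
    rw [mul_inv_cancel_right] at this
    exact hsC this
  have hAA : A ≤ centralizer (A : Set G) := (c.AP.trans c.comm).trans (centralizer_le c.AP)
  have hfin := pow_eq_one_of_two_fpf hAA hr.out (c.normP_le_normA (hLN hsL))
    (c.normP_le_normA (hLN (hBL hbB))) hst hsr
    (by rw [c'.elem.2 b hbB]; exact one_mem _) hft hfs
  apply c.A_ne_bot
  rw [eq_bot_iff]
  intro a ha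
  have h1 : orderOf a ∣ r := orderOf_dvd_of_pow_eq_one (hfin a ha)
  have h2 : orderOf a ∣ p := orderOf_dvd_of_pow_eq_one (c.elem.2 a ha)
  have h3 : orderOf a ∣ 1 := by
    have := Nat.dvd_gcd h2 h1
    rwa [(Nat.coprime_primes hp.out hr.out).2 hne] at this
  rw [mem_bot, ← orderOf_eq_one_iff]
  exact Nat.dvd_one.1 h3

/-- an `r`-element of `E ∩ N(P)`, `r` of rank one in `M`, whose elements of order `r` are regular
on `M_σ`, centralizes `A`. -/
theorem cent_of_rank_one (c : Ctx M E P A p) (h : Irr P A p) {r : ℕ} [hr : Fact r.Prime]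
    (hr1 : PRankLE r 1 M) {z : G} (hzE : z ∈ E) (hzN : z ∈ normalizer (P : Set G)) {k : ℕ}
    (hz : orderOf z = r ^ k)
    (hreg : ∀ y ∈ zpowers z, orderOf y = r → sigmaCore M ⊓ centralizer {y} = ⊥) :
    z ∈ centralizer (A : Set G) := by
  by_contra hzC
  have hne : p ≠ r := by
    rintro rfl
    exact not_rank_one_of_le c.AM c.elem c.card hr1
  have hzk : z ^ r ^ k = 1 := by rw [← hz]; exact pow_orderOf_eq_one z
  obtain ⟨k', rfl⟩ : ∃ k', k = k' + 1 := by
    rcases k with _ | k'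
    · exfalso
      rw [pow_zero, orderOf_eq_one_iff] at hz
      exact hzC (hz ▸ one_mem _)
    · exact ⟨k', rfl⟩
  set y := z ^ r ^ k' with hydef
  have hyz : y ∈ zpowers z := pow_mem (mem_zpowers z) _
  have hy : orderOf y = r := by
    apply orderOf_eq_prime
    · rw [hydef, ← pow_mul, ← pow_succ]; exact hzk
    · intro h1
      have h2 := orderOf_dvd_of_pow_eq_one h1
      rw [hz] at h2
      have h3 := Nat.le_of_dvd (pow_pos hr.out.pos _) h2
      exact absurd h3 (not_le.2 (Nat.pow_lt_pow_right hr.out.one_lt (Nat.lt_succ_self k')))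
  have hy1 : y ≠ 1 := by
    intro h1
    rw [h1, orderOf_one] at hy
    exact hr.out.one_lt.ne hy
  have hyE : y ∈ E := pow_mem hzE _
  have hyN : y ∈ normalizer (P : Set G) := pow_mem hzN _
  have hyC : y ∈ centralizer (A : Set G) := c.cent_of_regular h hne hyE hyN hy (hreg y hyz hy)
  have hYc : Nat.card (zpowers y) = r := by rw [Nat.card_zpowers, hy]
  have hYpg : IsPGroup r (zpowers y) := line_pg hYc
  have hYP : zpowers y ≤ centralizer (P : Set G) :=
    Helper96.BG11farm.cent_of_cent_omega hne.symm c.pg c.comm hYpg (zpowers_le.2 hyN) (by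
      intro x hx hxp
      have hxA : x ∈ A := (c.omega x hx).1 hxp
      exact le_centralizer_iff.1 (zpowers_le.2 hyC) hxA)
  have hNtop : normalizer ((zpowers y : Subgroup G) : Set G) ≠ ⊤ :=
    MS_normalizer_ne_top c.min (line_ne_bot hYc) (MS_isPGroup_ne_top c.min hYpg)
  obtain ⟨L, hL, hle⟩ := (eq_top_or_exists_le_coatom _).resolve_left hNtop
  have hCL : centralizer ((zpowers y : Subgroup G) : Set G) ≤ L :=
    (centralizer_le_normalizer _).trans hle
  have hPL : P ≤ L := (le_centralizer_iff.1 hYP).trans hCL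
  have hAL : A ≤ L := c.AP.trans hPL
  have hzL : z ∈ L := by
    apply hCL
    rw [Helper22.centralizer_zpowers, mem_centralizer_singleton_iff, hydef, ← pow_succ',
      ← pow_succ]
  have hyL : y ∈ L := pow_mem hzL _
  by_cases hrL : r ∈ sigma L
  · rcases sigma_or_tau2 c.min hL hAL c.elem c.card with hpL | hpL
    · have := cent_of_sigma_sigma c.min hL hpL hrL hne c.not_ideal hAL c.Apg (zpowers_le.2 hzL)
        (isPGroup_zpowers_of_pow hzk) (zpowers_le.2 (c.normP_le_normA hzN))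
      exact hzC (this (mem_zpowers z))
    · have h17 : ExcConcl L p A := Cfsg.Agent.S1417.result c.min L hL p hpL A ⟨hAL, c.elem, c.card⟩
      have h1 : y ∈ sigmaCore L ⊓ centralizer (A : Set G) :=
        mem_inf.2 ⟨le_sc c.min (ut c.min) hL hrL (zpowers_le.2 hyL) hYpg (mem_zpowers y), hyC⟩
      rw [h17.2.2.2.1, mem_bot] at h1
      exact hy1 h1
  · have h106 := sigma'_norm_mmax_rank2 c.min (ut c.min) hL hrL hYc hle
    have hrτ : r ∈ tau2 L := ⟨hr.out, hrL, h106.1.1, h106.1.2⟩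
    rcases sigma_or_tau2 c.min hL hAL c.elem c.card with hpL | hpL
    · exact c.case3 h hr1 hne hzE hzk hzC hyz hy hyC hL hPL hzL hrτ hpL
    · obtain ⟨E', hE', hAE'⟩ := exists_compl_ge c.min (ut c.min) hL hAL
        (Helper23T.primes_of_pgroup c.Apg hpL.2.1)
      obtain ⟨P', hP', hAP'⟩ := exists_isSylowIn_ge hAE' c.Apg
      have cL : Ctx L E' P' A p := ⟨c.min, hL, hE', hpL, hP', hAP', c.elem, c.card⟩
      obtain ⟨R, B, c', -⟩ := exists_ctx c.min hL hE' hrτ (Z := ⊥) bot_le IsPGroup.of_bot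
      have h1 : B ≤ centralizer (A : Set G) := cL.cent_cross c' hne
      exact not_rank_one_of_le ((h1.trans c.cent_le).trans c.compl.1) c'.elem c'.card hr1

/-- in the irreducible case `N_V(P)` centralizes `A`. -/
theorem beta_cent (c : Ctx M E P A p) (h : Irr P A p) {V : Subgroup G} (hV : V ≤ E)
    (hreg : ∀ y ∈ V, ∀ r : ℕ, r.Prime → PRankLE r 1 M → orderOf y = r →
      sigmaCore M ⊓ centralizer {y} = ⊥) :
    V ⊓ normalizer (P : Set G) ≤ centralizer (A : Set G) := by
  intro v hv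
  apply mem_of_primary
  rintro z hz ⟨r, k, hr, hzo⟩
  haveI : Fact r.Prime := ⟨hr⟩
  have hzVN : z ∈ V ⊓ normalizer (P : Set G) := zpowers_le.2 hv hz
  have hzV := (mem_inf.1 hzVN).1
  have hzN := (mem_inf.1 hzVN).2
  have hzE := hV hzV
  have hzk : z ^ r ^ k = 1 := by rw [← hzo]; exact pow_orderOf_eq_one z
  have hZpg : IsPGroup r (zpowers z) := isPGroup_zpowers_of_pow hzk
  by_cases hz1 : z = 1
  · rw [hz1]; exact one_mem _
  by_cases hrp : r = p
  · subst hrp
    have h2 : IsPGroup r (P ⊔ zpowers z : Subgroup G) :=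
      Helper22.isPGroup_sup (zpowers_le.2 hzN) c.pg hZpg
    have h3 := c.syl.eq_of_le (sup_le c.syl.1 (zpowers_le.2 hzE)) h2 le_sup_left
    have hzP : z ∈ P := h3 ▸ mem_sup_right (mem_zpowers z)
    exact centralizer_le c.AP (c.comm hzP)
  · have hrE : r ∣ Nat.card E := by
      have h1 : orderOf z ∣ Nat.card E := by
        rw [← Nat.card_zpowers]; exact card_dvd_of_le (zpowers_le.2 hzE)
      refine dvd_trans ?_ h1
      rw [hzo]
      apply dvd_pow_self
      rintro rfl
      rw [pow_zero, orderOf_eq_one_iff] at hzo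
      exact hz1 hzo
    have hrσ := compl_not_sigma c.min (ut c.min) c.coatom c.compl hr hrE
    rcases Helper34.BG16.tau2_or_rank_one c.min (ut c.min) c.coatom hr hrσ with hτ | h1
    · exact c.cent_of_tau2 hτ (Ne.symm hrp) (zpowers_le.2 hzE) hZpg (mem_zpowers z)
    · exact c.cent_of_rank_one h h1 hzE hzN hzo
        (fun y hy hyo => hreg y (zpowers_le.2 hzV hy) r hr h1 hyo)

end Ctx

end Cfsg.Agent.Lib.Helper68.BG1211
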