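import Cfsg.Agent.Lib.Helper68.BG1211d

/-!
# BG Corollary 12.11 (b): one prime at a time
-/

set_option autoImplicit false

namespace Cfsg.Agent.Lib.Helper68.BG1211

open Subgroup Cfsg
open Cfsg.Agent.Lib
open Cfsg.Agent.Lib.Helper24 Cfsg.Agent.Lib.Helper34 Cfsg.Agent.Lib.Helper31.BG11
open Cfsg.Agent.Lib.Helper34.BG13 Cfsg.Agent.Lib.Helper10.BG124
open Cfsg.Agent.Lib.Helper68.BG1211farm

universe u

variable {G : Type u} [Group G]

/-- the subgroup of `n`-th powers of an abelian subgroup. -/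
def powSub (P : Subgroup G) (hP : P ≤ centralizer (P : Set G)) (n : ℕ) : Subgroup G where
  carrier := {a | ∃ x ∈ P, x ^ n = a}
  one_mem' := ⟨1, one_mem _, one_pow _⟩
  mul_mem' := by
    rintro _ _ ⟨x, hx, rfl⟩ ⟨y, hy, rfl⟩
    refine ⟨x * y, mul_mem hx hy, ?_⟩
    have : Commute x y := (mem_centralizer_iff.1 (hP hy) x hx)
    exact this.mul_pow n
  inv_mem' := by
    rintro _ ⟨x, hx, rfl⟩
    exact ⟨x⁻¹, inv_mem hx, inv_pow x n⟩

theorem mem_powSub {P : Subgroup G} {hP : P ≤ centralizer (P : Set G)} {n : ℕ} {a : G} :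
    a ∈ powSub P hP n ↔ ∃ x ∈ P, x ^ n = a := Iff.rfl

theorem normalizer_le_powSub (P : Subgroup G) (hP : P ≤ centralizer (P : Set G)) (n : ℕ) :
    normalizer (P : Set G) ≤ normalizer (powSub P hP n : Set G) := by
  apply le_normalizer_of_forall_cj_le
  rintro g hg _ ⟨_, ⟨x, hx, rfl⟩, rfl⟩
  refine ⟨g * x * g⁻¹, (mem_normalizer_iff.1 hg x).1 hx, ?_⟩
  simp

variable [Finite G]

namespace Ctx

variable {M E P A : Subgroup G} {p : ℕ} [hp : Fact p.Prime]

theorem core (c : Ctx M E P A p) {V : Subgroup G} (hV : V ≤ E)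
    (hreg : ∀ y ∈ V, ∀ r : ℕ, r.Prime → PRankLE r 1 M → orderOf y = r →
      sigmaCore M ⊓ centralizer {y} = ⊥) :
    ∃ (e : ℕ) (A₁ : Subgroup G), (∀ x ∈ P, x ^ p ^ (e + 1) = 1) ∧ Nat.card A₁ = p ∧ A₁ ≤ A ∧
      (∀ a ∈ A₁, ∃ x ∈ P, x ^ p ^ e = a) ∧
      V ⊓ normalizer (P : Set G) ≤ normalizer (A₁ : Set G) ∧
      sigmaCore M ⊓ centralizer (A₁ : Set G) = ⊥ := by
  classical
  have hex : ∃ n, ∀ x ∈ P, x ^ p ^ n = 1 := by
    obtain ⟨n, hn⟩ := IsPGroup.iff_card.1 c.pg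
    refine ⟨n, fun x hx => ?_⟩
    have := pow_card_eq_one' (G := P) (x := ⟨x, hx⟩)
    rw [hn] at this
    exact congrArg Subtype.val this
  have hN0 : Nat.find hex ≠ 0 := by
    intro h0
    have := Nat.find_spec hex
    rw [h0] at this
    apply c.P_ne_bot
    rw [eq_bot_iff]
    intro x hx
    simpa using this x hx
  obtain ⟨e, he⟩ := Nat.exists_eq_succ_of_ne_zero hN0
  have hexp : ∀ x ∈ P, x ^ p ^ (e + 1) = 1 := by
    have := Nat.find_spec hex
    rwa [he] at this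
  have hmin : ¬ ∀ x ∈ P, x ^ p ^ e = 1 := Nat.find_min hex (by omega)
  push Not at hmin
  obtain ⟨x₀, hx₀, hx₀1⟩ := hmin
  set U := powSub P c.comm (p ^ e) with hU
  have hUA : U ≤ A := by
    rintro _ ⟨x, hx, rfl⟩
    rw [← c.omega _ (pow_mem hx _), ← pow_mul, ← pow_succ]
    exact hexp x hx
  have hUne : U ≠ ⊥ := by
    intro hb
    have : x₀ ^ p ^ e ∈ U := ⟨x₀, hx₀, rfl⟩
    rw [hb, mem_bot] at this
    exact hx₀1 this
  have hUN : normalizer (P : Set G) ≤ normalizer (U : Set G) := normalizer_le_powSub P c.comm _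
  have h1 : Nat.card U ∣ p ^ 2 := c.card ▸ card_dvd_of_le hUA
  obtain ⟨k, hk, hkc⟩ := (Nat.dvd_prime_pow hp.out).1 h1
  interval_cases k
  · rw [pow_zero] at hkc; exact absurd (card_eq_one.1 hkc) hUne
  · rw [pow_one] at hkc
    exact ⟨e, U, hexp, hkc, hUA, fun a ha => ha, inf_le_right.trans hUN, c.fpf_of_norm hUA hkc hUN⟩
  · have hUeq : U = A := eq_of_le_of_card_ge hUA (by rw [hkc, c.card])
    by_cases hI : Irr P A p
    · obtain ⟨A₁, hA₁A, hA₁c, hA₁f⟩ := c.exists_fpf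
      refine ⟨e, A₁, hexp, hA₁c, hA₁A, fun a ha => ?_, ?_, hA₁f⟩
      · have : a ∈ U := hUeq ▸ hA₁A ha
        exact this
      · exact ((c.beta_cent hI hV hreg).trans (centralizer_le hA₁A)).trans
          (centralizer_le_normalizer _)
    · unfold Irr at hI
      push Not at hI
      obtain ⟨A₁, hA₁A, hA₁c, hA₁N⟩ := hI
      refine ⟨e, A₁, hexp, hA₁c, hA₁A, fun a ha => ?_, inf_le_right.trans hA₁N,
        c.fpf_of_norm hA₁A hA₁c hA₁N⟩
      have : a ∈ U := hUeq ▸ hA₁A ha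
      exact this

end Ctx

variable {M E : Subgroup G}

/-- one prime `p ∈ τ₂(M)`. -/
theorem step (hG : IsMinSimpleOddOrder G) (hM : IsCoatom M) (hE : IsComplIn E (sigmaCore M) M)
    {p : ℕ} [hp : Fact p.Prime] (hτ : p ∈ tau2 M) {V : Subgroup G} (hV : V ≤ E)
    (hidx : ¬ p ∣ V.relIndex E)
    (hreg : ∀ y ∈ V, ∀ r : ℕ, r.Prime → PRankLE r 1 M → orderOf y = r →
      sigmaCore M ⊓ centralizer {y} = ⊥) :
    ∃ V' : Subgroup G, V' ≤ V ∧ (∀ r : ℕ, r.Prime → r ≠ p → ¬ r ∣ V'.relIndex V) ∧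
      Monoid.exponent V' = Monoid.exponent V ∧
      ∀ e ∈ V', orderOf e = p → sigmaCore M ⊓ centralizer {e} = ⊥ := by
  obtain ⟨P, hP, -⟩ := exists_isSylowIn_ge (p := p) (bot_le : (⊥ : Subgroup G) ≤ V) IsPGroup.of_bot
  have hPE : IsSylowIn p P E := by
    refine ⟨hP.1.trans hV, hP.2.1, ?_⟩
    rw [← relIndex_mul_relIndex P V E hP.1 hV]
    intro hd
    rcases hp.out.dvd_mul.1 hd with h | h
    · exact hP.2.2 h
    · exact hidx h
  obtain ⟨R, A, c, hPR⟩ := Ctx.exists_ctx hG hM hE hτ hPE.1 hPE.2.1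
  have hRP : P = R := hPE.eq_of_le c.syl.1 c.pg hPR
  subst hRP
  obtain ⟨e, A₁, hexp, hA₁c, hA₁A, hpow, hnorm, hfpf⟩ := c.core hV hreg
  have hPN : IsSylowIn p P (V ⊓ normalizer (P : Set G)) :=
    hP.of_le (le_inf hP.1 le_normalizer) inf_le_left
  have hcop : (Nat.card P).Coprime (P.relIndex (V ⊓ normalizer (P : Set G))) := by
    obtain ⟨n, hn⟩ := IsPGroup.iff_card.1 c.pg
    rw [hn]
    exact Nat.Coprime.pow_left n ((Nat.Prime.coprime_iff_not_dvd hp.out).2 hPN.2.2)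
  obtain ⟨H1, hH1le, hH1c, hH1sup⟩ := Helper1.sz_exists_rel P (V ⊓ normalizer (P : Set G)) hPN.1
    inf_le_right hcop
  obtain ⟨C, hCP, hCcyc, hCcard, hA₁C, hH1C⟩ := exists_invariant_cyclic c.pg c.comm
    (hH1le.trans inf_le_right)
    (by rw [hH1c]; exact ((Nat.Prime.coprime_iff_not_dvd hp.out).2 hPN.2.2).symm) e hexp hA₁c hpow
    (hH1le.trans hnorm)
  have hNC : V ⊓ normalizer (P : Set G) ≤ normalizer (C : Set G) := by
    rw [← hH1sup]
    exact sup_le hH1C ((c.comm.trans (centralizer_le hCP)).trans (centralizer_le_normalizer _))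
  have hVtop : V ≠ ⊤ := ne_top_of_le_ne_top hM.1 (hV.trans hE.1)
  obtain ⟨Y, hYV, hVY, hYcop, hfr⟩ := exists_frattini_of_pLength_one p (pl1 hG p V hVtop) hP
  obtain ⟨V', hV'V, hCV', hidx'⟩ := exists_cut hP hYV hVY hYcop hfr hCP hNC
  refine ⟨V', hV'V, hidx', exponent_eq_of_cut hV'V hidx' hP hCV'.1 hCcyc
    (by rw [hCcard]; exact hexp), ?_⟩
  intro x hx hxo
  have hxp : x ^ p = 1 := by rw [← hxo]; exact pow_orderOf_eq_one x
  have hx1 : x ≠ 1 := by
    intro h1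
    rw [h1, orderOf_one] at hxo
    exact hp.out.one_lt.ne hxo
  obtain ⟨n, hn, hle⟩ := hCV'.exists_conj_le (zpowers_le.2 hx)
    (isPGroup_zpowers_of_pow (k := 1) (by rw [pow_one]; exact hxp))
  have hyC : n * x * n⁻¹ ∈ C := hle (conj_mem_map_conj (mem_zpowers x))
  have hyp : (n * x * n⁻¹) ^ p = 1 := by rw [conj_pow, hxp]; simp
  have hyA : n * x * n⁻¹ ∈ A := (c.omega _ (hCP hyC)).1 hyp
  have hCA : A₁ = C ⊓ A := by
    apply eq_of_le_of_card_ge (le_inf hA₁C hA₁A)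
    have h1 := (pRankLE_iff C).1 (pRankLE_one_of_isCyclic (p := p) hp.out.pos) (C ⊓ A) inf_le_left
      ⟨⟨fun x y => Subtype.ext (show x.1 * y.1 = y.1 * x.1 from
        congrArg Subtype.val (c.elem.1.is_comm.comm ⟨x.1, (mem_inf.1 x.2).2⟩
          ⟨y.1, (mem_inf.1 y.2).2⟩))⟩⟩
      (fun a ha => c.elem.2 a (mem_inf.1 ha).2)
    rw [hA₁c]
    simpa using h1
  have hyA₁ : n * x * n⁻¹ ∈ A₁ := by rw [hCA]; exact mem_inf.2 ⟨hyC, hyA⟩
  have hy1 : n * x * n⁻¹ ≠ 1 := by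
    intro h1
    apply hx1
    have := congrArg (fun t => n⁻¹ * t * n) h1
    simpa [mul_assoc] using this
  rw [centralizer_eq_of_card_prime hp.out hA₁c hyA₁ hy1] at hfpf
  rw [eq_bot_iff]
  intro g hg
  have hgσ := (mem_inf.1 hg).1
  have hgx : g * x = x * g := mem_centralizer_singleton_iff.1 (mem_inf.1 hg).2
  have hnM : n ∈ M := hE.1 (hV (hV'V hn))
  have h1 : n * g * n⁻¹ ∈ sigmaCore M ⊓ centralizer {n * x * n⁻¹} := by
    refine mem_inf.2 ⟨(mem_normalizer_iff.1 (sc_norm M hnM) g).1 hgσ, ?_⟩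
    rw [mem_centralizer_singleton_iff]
    calc n * g * n⁻¹ * (n * x * n⁻¹) = n * (g * x) * n⁻¹ := by group
      _ = n * (x * g) * n⁻¹ := by rw [hgx]
      _ = n * x * n⁻¹ * (n * g * n⁻¹) := by group
  rw [hfpf, mem_bot] at h1
  rw [mem_bot]
  have := congrArg (fun t => n⁻¹ * t * n) h1
  simpa [mul_assoc] using this

theorem steps (hG : IsMinSimpleOddOrder G) (hM : IsCoatom M) (hE : IsComplIn E (sigmaCore M) M)
    {V : Subgroup G} (hV : V ≤ E) (hidx : ∀ p ∈ tau2 M, ¬ p ∣ V.relIndex E)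
    (hreg : ∀ y ∈ V, ∀ r : ℕ, r.Prime → PRankLE r 1 M → orderOf y = r →
      sigmaCore M ⊓ centralizer {y} = ⊥) (S : Finset ℕ) :
    ∃ V' : Subgroup G, V' ≤ V ∧ (∀ r : ℕ, r.Prime → r ∉ S → ¬ r ∣ V'.relIndex V) ∧
      Monoid.exponent V' = Monoid.exponent V ∧
      ∀ e ∈ V', ∀ p ∈ S, p ∈ tau2 M → orderOf e = p → sigmaCore M ⊓ centralizer {e} = ⊥ := by
  classical
  induction S using Finset.induction_on with
  | empty =>
    refine ⟨V, le_rfl, fun r hr _ => ?_, rfl, fun e _ p hp => absurd hp (Finset.notMem_empty p)⟩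
    rw [relIndex_self]
    exact hr.one_lt.ne' ∘ Nat.dvd_one.1
  | insert p S hpS ih =>
    obtain ⟨V', hV'V, hidx', hexp', hreg'⟩ := ih
    by_cases hτ : p ∈ tau2 M
    · haveI : Fact p.Prime := ⟨hτ.1⟩
      have h1 : ¬ p ∣ V'.relIndex E := by
        rw [← relIndex_mul_relIndex V' V E hV'V hV]
        intro hd
        rcases hτ.1.dvd_mul.1 hd with h | h
        · exact hidx' p hτ.1 hpS h
        · exact hidx p hτ h
      obtain ⟨V'', hV''V', hidx'', hexp'', hreg''⟩ := step hG hM hE hτ (hV'V.trans hV) h1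
        (fun y hy => hreg y (hV'V hy))
      refine ⟨V'', hV''V'.trans hV'V, ?_, hexp''.trans hexp', ?_⟩
      · intro r hr hrS
        rw [Finset.mem_insert, not_or] at hrS
        rw [← relIndex_mul_relIndex V'' V' V hV''V' hV'V]
        intro hd
        rcases hr.dvd_mul.1 hd with h | h
        · exact hidx'' r hr hrS.1 h
        · exact hidx' r hr hrS.2 h
      · intro e he q hq hqτ heo
        rcases Finset.mem_insert.1 hq with rfl | hq
        · exact hreg'' e he heo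
        · exact hreg' e (hV''V' he) q hq hqτ heo
    · refine ⟨V', hV'V, ?_, hexp', ?_⟩
      · intro r hr hrS
        rw [Finset.mem_insert, not_or] at hrS
        exact hidx' r hr hrS.2
      · intro e he q hq hqτ heo
        rcases Finset.mem_insert.1 hq with rfl | hq
        · exact absurd hqτ hτ
        · exact hreg' e he q hq hqτ heo

/-- **Theorem X** (BG 12.11 (b), general form). -/
theorem main (hG : IsMinSimpleOddOrder G) (hM : IsCoatom M) (hE : IsComplIn E (sigmaCore M) M)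
    {V : Subgroup G} (hV : V ≤ E) (hidx : ∀ p ∈ tau2 M, ¬ p ∣ V.relIndex E)
    (hreg : ∀ y ∈ V, ∀ r : ℕ, r.Prime → PRankLE r 1 M → orderOf y = r →
      sigmaCore M ⊓ centralizer {y} = ⊥) :
    ∃ V₀ : Subgroup G, V₀ ≤ V ∧ Monoid.exponent V₀ = Monoid.exponent V ∧
      ∀ e ∈ V₀, e ≠ 1 → sigmaCore M ⊓ centralizer {e} = ⊥ := by
  obtain ⟨V₀, hV₀V, -, hexp, hreg₀⟩ := steps hG hM hE hV hidx hreg (Nat.card E).primeFactors
  refine ⟨V₀, hV₀V, hexp, ?_⟩
  intro e he he1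
  have ho : orderOf e ≠ 1 := fun h => he1 (orderOf_eq_one_iff.1 h)
  obtain ⟨r, hr, hrd⟩ := Nat.exists_prime_and_dvd ho
  obtain ⟨m, hm⟩ := hrd
  have hyo : orderOf (e ^ m) = r := by
    have h0 : 0 < orderOf e := orderOf_pos e
    have hm0 : m ≠ 0 := by
      rintro rfl
      rw [mul_zero] at hm
      omega
    rw [orderOf_pow_of_dvd hm0 ⟨r, by rw [hm, mul_comm]⟩, hm]
    exact Nat.mul_div_cancel _ (Nat.pos_of_ne_zero hm0)
  have hyV₀ : e ^ m ∈ V₀ := pow_mem he m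
  have hrE : r ∣ Nat.card E := by
    rw [← hyo, ← Nat.card_zpowers]
    exact card_dvd_of_le (zpowers_le.2 (hV (hV₀V hyV₀)))
  have hrσ := compl_not_sigma hG (ut hG) hM hE hr hrE
  have hy : sigmaCore M ⊓ centralizer {e ^ m} = ⊥ := by
    rcases Helper34.BG16.tau2_or_rank_one hG (ut hG) hM hr hrσ with hτ | h1
    · exact hreg₀ _ hyV₀ r (Nat.mem_primeFactors.2 ⟨hr, hrE, Nat.card_pos.ne'⟩) hτ hyo
    · exact hreg _ (hV₀V hyV₀) r hr h1 hyo
  rw [eq_bot_iff, ← hy]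
  refine inf_le_inf_left _ ?_
  intro g hg
  rw [mem_centralizer_singleton_iff] at hg ⊢
  exact (Commute.pow_right (show Commute g e from hg) m)

end Cfsg.Agent.Lib.Helper68.BG1211
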