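import Cfsg.Agent.Lib.Helper20.BG144g
import Cfsg.Agent.Lib.Helper10.BG95b
import Cfsg.Agent.Lib.Helper47.PCore
import Cfsg.Agent.Lib.Helper23.BGT2
import Cfsg.Agent.S1378
import Cfsg.Agent.S1404
import Cfsg.Agent.S1420
import Cfsg.Agent.S1426

/-!
# BG Theorem 15.7 (corrected form): basic facts on `X = F(M) ∩ F(M)^g`
-/

set_option autoImplicit false

namespace Cfsg.Agent.Lib.Helper68.BG157

open Subgroup Cfsg
open Cfsg.Agent.Lib
open Cfsg.Agent.Lib.Helper24 Cfsg.Agent.Lib.Helper34 Cfsg.Agent.Lib.Helper31.BG11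
open Cfsg.Agent.Lib.Helper34.BG13 Cfsg.Agent.Lib.Helper34.BG16 Cfsg.Agent.Lib.Helper10.BG124
open Cfsg.Agent.Lib.Helper20.BG14

universe u

variable {G : Type u} [Group G] [Finite G] {M : Subgroup G}

theorem h78 (hG : IsMinSimpleOddOrder G) : H1378 G := (Cfsg.Agent.S1378.result hG).2

theorem fittingOf_le (M : Subgroup G) : fittingOf M ≤ M := map_subtype_le _

/-- an element of prime order `t` of `F(M)` lies in `O_t(M)`. -/
theorem mem_pCoreOf {x : G} {t : ℕ} [ht : Fact t.Prime] (hx : x ∈ fittingOf M)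
    (hxo : orderOf x = t) : x ∈ pCoreOf t M :=
  Helper10.BG95.le_pCoreOf_of_le_fittingOf
    (IsPGroup.of_card (n := 1) (by rw [Nat.card_zpowers, hxo, pow_one])) (zpowers_le.2 hx)
    (mem_zpowers x)

/-- `O_t(M)` centralizes every normal subgroup of `M` of order prime to `t`. -/
theorem pCoreOf_centralizes {t : ℕ} [ht : Fact t.Prime] {K : Subgroup G} (hKM : K ≤ M)
    (hMK : M ≤ normalizer (K : Set G)) (hK : ¬ t ∣ Nat.card K) :
    K ≤ centralizer (pCoreOf t M : Set G) :=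
  le_centralizer_of_normal_coprime hKM (Helper47.pCoreOf_le M) hMK
    (Helper47.le_normalizer_pCoreOf M)
    ((Nat.Prime.coprime_iff_not_dvd ht.out).2 hK).symm (Helper47.pCoreOf_isPGroup M)

/-- Lemma A. -/
theorem uniq_of_not_sigma (hG : IsMinSimpleOddOrder G) (hM : IsCoatom M) {x : G} {t : ℕ}
    [ht : Fact t.Prime] (hx : x ∈ fittingOf M) (hxo : orderOf x = t) (hσ : t ∉ sigma M) :
    centralizer ({x} : Set G) ≤ M ∧
      ∀ L : Subgroup G, IsCoatom L → centralizer ({x} : Set G) ≤ L → L = M := by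
  have hxT := mem_pCoreOf hx hxo
  have hx1 : x ≠ 1 := by
    rintro rfl
    rw [orderOf_one] at hxo
    exact ht.out.one_lt.ne hxo
  have hT1 : pCoreOf t M ≠ ⊥ := fun h => hx1 (by rw [h, mem_bot] at hxT; exact hxT)
  have hτ : t ∈ tau2 M := Helper23T.mem_tau2_of_normal hG (ut hG) hM hσ (Helper47.pCoreOf_le M)
    (Helper47.pCoreOf_isPGroup M) hT1 (Helper47.le_normalizer_pCoreOf M)
  have hc : sigmaCore M ≤ centralizer (pCoreOf t M : Set G) :=
    pCoreOf_centralizes (sc_le M) (sc_norm M) (fun hd => hσ (sc_primes M ht.out hd))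
  obtain ⟨y, hy, hy1⟩ : ∃ y ∈ sigmaCore M, y ≠ 1 := by
    by_contra hcon
    push Not at hcon
    exact Helper23T.sc_ne_bot hG (ut hG) hM ((eq_bot_iff_forall _).2 hcon)
  obtain ⟨E, hE⟩ := exists_compl hG (ut hG) hM
  refine (Cfsg.Agent.S1420.result hG M hM E hE).2.2.2 x (fittingOf_le M hx) hx1 ?_
    ⟨fittingOf_le M hx, y, hy, hy1, (mem_centralizer_iff.1 (hc hy) x hxT)⟩
  intro p hp hpd
  rw [hxo] at hpd
  rwa [(Nat.prime_dvd_prime_iff_eq hp ht.out).1 hpd]

/-- an element of `M` whose order involves only primes of `σ(M)` lies in `M_σ`. -/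
theorem mem_sc_of_primes (hG : IsMinSimpleOddOrder G) (hM : IsCoatom M) {x : G} (hx : x ∈ M)
    (h : ∀ p : ℕ, p.Prime → p ∣ orderOf x → p ∈ sigma M) : x ∈ sigmaCore M := by
  apply mem_of_pow_mem_of_coprime (n := orderOf x) (k := (sigmaCore M).relIndex M)
  · apply Nat.coprime_of_dvd
    intro k hk h1 h2
    exact (sc_hall hG (ut hG) hM).2.2 k hk (h k hk h1) h2
  · rw [pow_orderOf_eq_one]; exact one_mem _
  · exact pow_relIndex_mem (sc_le M) (sc_norm M) hx

theorem cj_eq_self_iff (hG : IsMinSimpleOddOrder G) (hM : IsCoatom M) {g : G}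
    (h : cj g M = M) : g ∈ M := by
  have := mem_normalizer_of_map_conj_eq h
  rwa [MS_normalizer_coatom hG hM] at this

/-- (S1) -/
theorem inter_le_sc (hG : IsMinSimpleOddOrder G) (hM : IsCoatom M) {g : G} (hg : g ∉ M) :
    fittingOf M ⊓ cj g (fittingOf M) ≤ sigmaCore M := by
  intro x hx
  have hxF := (mem_inf.1 hx).1
  apply mem_sc_of_primes hG hM (fittingOf_le M hxF)
  intro t ht htd
  by_contra hσ
  haveI : Fact t.Prime := ⟨ht⟩
  obtain ⟨m, hm⟩ := htd
  have hm0 : m ≠ 0 := by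
    rintro rfl
    rw [mul_zero] at hm
    exact (orderOf_pos x).ne' hm
  have hyo : orderOf (x ^ m) = t := by
    rw [orderOf_pow_of_dvd hm0 ⟨t, by rw [hm, mul_comm]⟩, hm]
    exact Nat.mul_div_cancel _ (Nat.pos_of_ne_zero hm0)
  have hy : x ^ m ∈ fittingOf M ⊓ cj g (fittingOf M) := pow_mem hx m
  set y := x ^ m with hydef
  have h1 := uniq_of_not_sigma hG hM (mem_inf.1 hy).1 hyo hσ
  have hy' : g⁻¹ * y * g ∈ fittingOf M := mem_map_conj.1 (mem_inf.1 hy).2
  have hyo' : orderOf (g⁻¹ * y * g) = t := by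
    have := (MulAut.conj g⁻¹).orderOf_eq y
    rw [MulAut.conj_apply, inv_inv] at this
    rw [this, hyo]
  have h2 := uniq_of_not_sigma hG hM hy' hyo' hσ
  have h3 : centralizer ({g⁻¹ * y * g} : Set G) = cj g⁻¹ (centralizer ({y} : Set G)) := by
    have := centralizer_singleton_conj g⁻¹ y
    rwa [inv_inv] at this
  have h4 : cj g⁻¹ M = M := by
    apply h2.2 _ (isCoatom_cj hM g⁻¹)
    rw [h3]
    exact cj_mono _ h1.1
  exact hg (by simpa using inv_mem (cj_eq_self_iff hG hM h4))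

theorem le_normalizer_fittingOf (M : Subgroup G) : M ≤ normalizer (fittingOf M : Set G) :=
  Helper22.BG.le_normalizer_map_subtype _ Helper1.fittingSubgroup_normal

/-- the non-TI context. -/
structure NT (M : Subgroup G) (g : G) : Prop where
  min : IsMinSimpleOddOrder G
  coatom : IsCoatom M
  hg : g ∉ M
  ne : fittingOf M ⊓ cj g (fittingOf M) ≠ ⊥

/-- criterion for `F(M)` to be a TI-subset. -/
theorem isTISubset_fittingOf (hG : IsMinSimpleOddOrder G) (hM : IsCoatom M)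
    (h : ∀ g, ¬ NT M g) : IsTISubset (fittingOf M : Set G) := by
  intro g hg x hx hgx
  have hgM : g ∉ M := fun hm => hg (le_normalizer_fittingOf M hm)
  by_contra hx1
  apply h g
  refine ⟨hG, hM, hgM, ?_⟩
  intro hb
  have h1 : g * x * g⁻¹ ∈ fittingOf M ⊓ cj g (fittingOf M) :=
    mem_inf.2 ⟨hgx, conj_mem_map_conj hx⟩
  rw [hb, mem_bot] at h1
  apply hx1
  have := congrArg (fun t => g⁻¹ * t * g) h1
  simpa [mul_assoc] using this

namespace NT

variable {g : G}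

theorem le_sc (c : NT M g) : fittingOf M ⊓ cj g (fittingOf M) ≤ sigmaCore M :=
  inter_le_sc c.min c.coatom c.hg

theorem le_inter (c : NT M g) :
    fittingOf M ⊓ cj g (fittingOf M) ≤ sigmaCore M ⊓ cj g M :=
  le_inf c.le_sc (inf_le_right.trans (cj_mono g (fittingOf_le M)))

theorem r26 (c : NT M g) : IsCyclic ↥(sigmaCore M ⊓ cj g M) ∧
    (∀ p : ℕ, p.Prime → p ∣ Nat.card ↥(sigmaCore M ⊓ cj g M) → p ∉ beta M) ∧
    sigmaCore M ⊓ cj g M ⊓ ⁅sigmaCore M, sigmaCore M⁆ = ⊥ := by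
  obtain ⟨E, hE⟩ := exists_compl c.min (ut c.min) c.coatom
  exact (Cfsg.Agent.S1426.result c.min M c.coatom E hE).2.2 g c.hg

theorem cyclic (c : NT M g) : IsCyclic ↥(fittingOf M ⊓ cj g (fittingOf M)) := by
  haveI := c.r26.1
  exact isCyclic_of_injective (inclusion c.le_inter) (inclusion_injective c.le_inter)

theorem not_beta (c : NT M g) {p : ℕ} (hp : p.Prime)
    (hd : p ∣ Nat.card ↥(fittingOf M ⊓ cj g (fittingOf M))) : p ∉ beta M :=
  c.r26.2.1 p hp (hd.trans (card_dvd_of_le c.le_inter))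

theorem mem_sigma (c : NT M g) {p : ℕ} (hp : p.Prime)
    (hd : p ∣ Nat.card ↥(fittingOf M ⊓ cj g (fittingOf M))) : p ∈ sigma M :=
  sc_primes M hp (hd.trans (card_dvd_of_le c.le_sc))

theorem inf_comm_eq_bot (c : NT M g) :
    fittingOf M ⊓ cj g (fittingOf M) ⊓ ⁅sigmaCore M, sigmaCore M⁆ = ⊥ := by
  rw [eq_bot_iff, ← c.r26.2.2]
  exact inf_le_inf_right _ c.le_inter

/-- (S2) -/
theorem cent_not_le (c : NT M g) {p : ℕ} [hp : Fact p.Prime] {X₀ : Subgroup G}
    (hX₀ : X₀ ≤ fittingOf M ⊓ cj g (fittingOf M)) (hpg : IsPGroup p X₀) (hne : X₀ ≠ ⊥) :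
    ¬ centralizer (X₀ : Set G) ≤ M := by
  intro hle
  have hpd : p ∣ Nat.card X₀ := by
    rcases hpg.card_eq_or_dvd with h | h
    · exact absurd (card_eq_one.1 h) hne
    · exact h
  have hσ := c.mem_sigma hp.out (hpd.trans (card_dvd_of_le hX₀))
  have hXM : X₀ ≤ M := (hX₀.trans inf_le_left).trans (fittingOf_le M)
  have h1 : cj g⁻¹ X₀ ≤ M := by
    rintro _ ⟨x, hx, rfl⟩
    have h2 : x ∈ cj g M := cj_mono g (fittingOf_le M) (mem_inf.1 (hX₀ hx)).2
    have := mem_map_conj.1 h2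
    simpa using this
  obtain ⟨m, hm, z, hz, e⟩ := (Cfsg.Agent.S1404.result c.min M c.coatom p hσ X₀ hpg hne hXM).1 g⁻¹ h1
  apply c.hg
  have : g = (m * z)⁻¹ := by rw [← e, inv_inv]
  rw [this]
  exact inv_mem (mul_mem hm (hle hz))

/-- existence of an element of prime order in `X`. -/
theorem exists_prime (c : NT M g) : ∃ (p : ℕ) (x : G), p.Prime ∧
    x ∈ fittingOf M ⊓ cj g (fittingOf M) ∧ orderOf x = p := by
  have h1 : Nat.card ↥(fittingOf M ⊓ cj g (fittingOf M)) ≠ 1 := fun h => c.ne (card_eq_one.1 h)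
  obtain ⟨p, hp, hpd⟩ := Nat.exists_prime_and_dvd h1
  haveI : Fact p.Prime := ⟨hp⟩
  obtain ⟨x, hx⟩ := exists_prime_orderOf_dvd_card' (G := ↥(fittingOf M ⊓ cj g (fittingOf M))) p hpd
  exact ⟨p, x, hp, x.2, by rw [Subgroup.orderOf_coe]; exact hx⟩

theorem cent_elem_not_le (c : NT M g) {p : ℕ} [hp : Fact p.Prime] {x : G}
    (hx : x ∈ fittingOf M ⊓ cj g (fittingOf M)) {k : ℕ} (hxo : x ^ p ^ k = 1) (hx1 : x ≠ 1) :
    ¬ centralizer ({x} : Set G) ≤ M := by
  have := c.cent_not_le (p := p) (zpowers_le.2 hx) (by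
    rintro ⟨y, hy⟩
    obtain ⟨n, rfl⟩ := mem_zpowers_iff.1 hy
    refine ⟨k, Subtype.ext ?_⟩
    show (x ^ n) ^ p ^ k = 1
    rw [← zpow_natCast, ← zpow_mul, mul_comm, zpow_mul, zpow_natCast, hxo, one_zpow])
    (by rwa [Ne, zpowers_eq_bot])
  rwa [Helper22.centralizer_zpowers] at this

end NT

end Cfsg.Agent.Lib.Helper68.BG157
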