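import Mathlib

set_option autoImplicit false

namespace Cfsg.Agent.Lib.Helper68

open Polynomial

section Intertwine

variable {F V : Type*} [Field F] [AddCommGroup V] [Module F V]

/-- if `s` intertwines `X` and `Y` then it intertwines all polynomials in them -/
lemma aeval_intertwine (X Y : Module.End F V) (s : V →ₗ[F] V) (h : ∀ u, s (X u) = Y (s u))
    (c : F[X]) (u : V) : s (aeval X c u) = aeval Y c (s u) := by
  induction c using Polynomial.induction_on generalizing u with
  | C a => simp [Module.algebraMap_end_apply]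
  | add f g hf hg => simp [hf, hg]
  | monomial n a ih =>
    have e1 : aeval X (C a * Polynomial.X ^ (n + 1)) = aeval X (C a * Polynomial.X ^ n) * X := by
      rw [pow_succ, ← mul_assoc, map_mul, aeval_X]
    have e2 : aeval Y (C a * Polynomial.X ^ (n + 1)) = aeval Y (C a * Polynomial.X ^ n) * Y := by
      rw [pow_succ, ← mul_assoc, map_mul, aeval_X]
    rw [e1, e2, Module.End.mul_apply, Module.End.mul_apply, ih, h]

lemma aeval_mul_apply (X : Module.End F V) (a b : F[X]) (u : V) :
    aeval X (a * b) u = aeval X a (aeval X b u) := by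
  rw [map_mul, Module.End.mul_apply]

end Intertwine

section Main

variable {p q : ℕ} [Fact p.Prime] [Fact q.Prime]
variable {V : Type*} [AddCommGroup V] [Module (ZMod p) V] [Finite V]

theorem irreducible_minpoly_of_transitive [Nontrivial V] (hpq : p ≠ q)
    (X : Module.End (ZMod p) V) (hXq : X ^ q = 1)
    (H2 : ∀ v w : V, v ≠ 0 → w ≠ 0 → ∃ (s : V →ₗ[ZMod p] V) (k : ℕ), Function.Injective s ∧
      (∀ u, s (X u) = (X ^ k) (s u)) ∧ s v = w) :
    Irreducible (minpoly (ZMod p) X) := by
  have hint : IsIntegral (ZMod p) X := Algebra.IsIntegral.isIntegral X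
  have hμ0 : minpoly (ZMod p) X ≠ 0 := minpoly.ne_zero hint
  have hμu : ¬ IsUnit (minpoly (ZMod p) X) := minpoly.not_isUnit (ZMod p) X
  have hq0 : ((q : ℕ) : ZMod p) ≠ 0 := by
    intro h
    rw [ZMod.natCast_eq_zero_iff] at h
    exact hpq ((Nat.prime_dvd_prime_iff_eq Fact.out Fact.out).mp h)
  have hdvd : minpoly (ZMod p) X ∣ (Polynomial.X ^ q - C 1 : (ZMod p)[X]) :=
    minpoly.dvd (ZMod p) X (by simp [hXq])
  have hsq : Squarefree (minpoly (ZMod p) X) :=
    (separable_X_pow_sub_C (1 : ZMod p) hq0 one_ne_zero).squarefree.squarefree_of_dvd hdvd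
  rw [irreducible_iff]
  refine ⟨hμu, ?_⟩
  intro g h hgh
  by_contra hcon
  push Not at hcon
  obtain ⟨hgu, hhu⟩ := hcon
  have hg0 : g ≠ 0 := by
    rintro rfl
    rw [zero_mul] at hgh
    exact hμ0 hgh
  have hh0 : h ≠ 0 := by
    rintro rfl
    rw [mul_zero] at hgh
    exact hμ0 hgh
  have hcop : IsCoprime g h := by
    rw [hgh] at hsq
    exact (squarefree_mul_iff.mp hsq).1.isCoprime
  obtain ⟨a, b, hab⟩ := hcop
  have hμX : ∀ u, aeval X (g * h) u = 0 := by
    intro u
    rw [← hgh, minpoly.aeval]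
    rfl
  -- kernel of g(X) is nonzero
  have hker1 : ∃ v : V, v ≠ 0 ∧ aeval X g v = 0 := by
    by_contra hall
    push Not at hall
    have hh : aeval X h = 0 := by
      apply LinearMap.ext
      intro u
      by_contra hne
      exact hall _ hne (by rw [← aeval_mul_apply]; exact hμX u)
    obtain ⟨c, hc⟩ := minpoly.dvd (ZMod p) X hh
    rw [hgh] at hc
    apply hgu
    have h1 : h * 1 = h * (g * c) := by
      rw [mul_one]
      calc h = g * h * c := hc
        _ = h * (g * c) := by ring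
    exact IsUnit.of_mul_eq_one c (mul_left_cancel₀ hh0 h1).symm
  have hker2 : ∃ v : V, v ≠ 0 ∧ aeval X h v = 0 := by
    by_contra hall
    push Not at hall
    have hh : aeval X g = 0 := by
      apply LinearMap.ext
      intro u
      by_contra hne
      exact hall _ hne (by rw [← aeval_mul_apply, mul_comm]; exact hμX u)
    obtain ⟨c, hc⟩ := minpoly.dvd (ZMod p) X hh
    rw [hgh] at hc
    apply hhu
    have h1 : g * 1 = g * (h * c) := by
      rw [mul_one]
      calc g = g * h * c := hc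
        _ = g * (h * c) := by ring
    exact IsUnit.of_mul_eq_one c (mul_left_cancel₀ hg0 h1).symm
  obtain ⟨v₁, hv₁, hgv₁⟩ := hker1
  obtain ⟨v₂, hv₂, hhv₂⟩ := hker2
  have hone : ∀ u, aeval X (a * g) u + aeval X (b * h) u = u := by
    intro u
    have : aeval X (a * g + b * h) u = u := by rw [hab]; simp
    rw [map_add, LinearMap.add_apply] at this
    exact this
  have h1 : aeval X (b * h) (v₁ + v₂) = v₁ := by
    rw [map_add, aeval_mul_apply X b h v₂, hhv₂, map_zero, add_zero]
    have := hone v₁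
    rw [aeval_mul_apply X a g v₁, hgv₁, map_zero, zero_add] at this
    exact this
  have h2 : aeval X (a * g) (v₁ + v₂) = v₂ := by
    rw [map_add, aeval_mul_apply X a g v₁, hgv₁, map_zero, zero_add]
    have := hone v₂
    rw [aeval_mul_apply X b h v₂, hhv₂, map_zero, add_zero] at this
    exact this
  have hw : v₁ + v₂ ≠ 0 := by
    intro h0
    rw [h0, map_zero] at h1
    exact hv₁ h1.symm
  obtain ⟨s, k, hsinj, hsX, hsw⟩ := H2 (v₁ + v₂) v₁ hw hv₁
  have hle : ({u | ∃ c : (ZMod p)[X], aeval X c (v₁ + v₂) = u} : Set V).ncard ≤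
      ({u | ∃ c : (ZMod p)[X], aeval X c v₁ = u} : Set V).ncard := by
    rw [← Set.ncard_image_of_injective _ hsinj]
    apply Set.ncard_le_ncard _ (Set.toFinite _)
    rintro _ ⟨u, ⟨c, rfl⟩, rfl⟩
    refine ⟨c.comp (Polynomial.X ^ k), ?_⟩
    rw [aeval_intertwine X (X ^ k) s hsX, hsw, aeval_comp]
    simp
  have hlt : ({u | ∃ c : (ZMod p)[X], aeval X c v₁ = u} : Set V).ncard <
      ({u | ∃ c : (ZMod p)[X], aeval X c (v₁ + v₂) = u} : Set V).ncard := by
    apply Set.ncard_lt_ncard _ (Set.toFinite _)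
    rw [Set.ssubset_iff_of_subset]
    · refine ⟨v₂, ⟨a * g, h2⟩, ?_⟩
      rintro ⟨c, hc⟩
      apply hv₂
      have e1 : aeval X g v₂ = 0 := by
        rw [← hc, ← aeval_mul_apply, mul_comm, aeval_mul_apply, hgv₁, map_zero]
      have := hone v₂
      rw [aeval_mul_apply X a g v₂, e1, aeval_mul_apply X b h v₂, hhv₂, map_zero, map_zero,
        add_zero] at this
      exact this.symm
    · rintro _ ⟨c, rfl⟩
      refine ⟨c * (b * h), ?_⟩
      rw [aeval_mul_apply, h1]
  exact absurd hle (not_le_of_gt hlt)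

lemma orderOf_unitOfCoprime_eq (hpq : p ≠ q) (h : (p ^ 1).Coprime q) :
    orderOf (ZMod.unitOfCoprime (p ^ 1) h) = orderOf ((p : ℕ) : ZMod q) := by
  rw [← orderOf_units, ZMod.coe_unitOfCoprime, pow_one]

theorem orderOf_eq_of_irreducible_minpoly (hpq : p ≠ q)
    (X : Module.End (ZMod p) V) (hΦ : aeval X (cyclotomic q (ZMod p)) = 0)
    (hirr : Irreducible (minpoly (ZMod p) X))
    (H1 : ∀ k : ℕ, 1 ≤ k → k < q → ∃ s : V →ₗ[ZMod p] V, Function.Surjective s ∧
      ∀ u, s (X u) = (X ^ k) (s u)) :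
    orderOf ((p : ℕ) : ZMod q) = q - 1 := by
  have hp : p.Prime := Fact.out
  have hq : q.Prime := Fact.out
  have hcop : p.Coprime q := (Nat.coprime_primes hp hq).mpr hpq
  have hdvd : minpoly (ZMod p) X ∣ cyclotomic q (ZMod p) := minpoly.dvd _ _ hΦ
  have hdeg := natDegree_of_dvd_cyclotomic_of_irreducible (K := ZMod p) (p := p) (f := 1) (n := q)
    (by simp) hcop hdvd hirr
  rw [orderOf_unitOfCoprime_eq hpq] at hdeg
  rw [← hdeg]
  apply le_antisymm
  · have := natDegree_le_of_dvd hdvd (cyclotomic_ne_zero q (ZMod p))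
    rw [natDegree_cyclotomic, Nat.totient_prime hq] at this
    exact this
  · haveI : Fact (Irreducible (minpoly (ZMod p) X)) := ⟨hirr⟩
    have hq0 : ((q : ℕ) : ZMod p) ≠ 0 := by
      intro h
      rw [ZMod.natCast_eq_zero_iff] at h
      exact hpq ((Nat.prime_dvd_prime_iff_eq hp hq).mp h)
    haveI : NeZero ((q : ℕ) : AdjoinRoot (minpoly (ZMod p) X)) := by
      haveI : NeZero ((q : ℕ) : ZMod p) := ⟨hq0⟩
      simpa using NeZero.of_injective
        (algebraMap (ZMod p) (AdjoinRoot (minpoly (ZMod p) X))).injective (a := ((q : ℕ) : ZMod p))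
    have hζ : IsPrimitiveRoot (AdjoinRoot.root (minpoly (ZMod p) X)) q := by
      rw [← isRoot_cyclotomic_iff]
      have h1 : aeval (AdjoinRoot.root (minpoly (ZMod p) X)) (cyclotomic q (ZMod p)) = 0 := by
        obtain ⟨c, hc⟩ := hdvd
        rw [hc, map_mul, AdjoinRoot.aeval_eq, AdjoinRoot.mk_self, zero_mul]
      rw [IsRoot.def, ← map_cyclotomic q (algebraMap (ZMod p) (AdjoinRoot (minpoly (ZMod p) X))),
        eval_map_algebraMap]
      exact h1
    have hroot : ∀ k : ℕ, 1 ≤ k → k < q →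
        aeval ((AdjoinRoot.root (minpoly (ZMod p) X)) ^ k) (minpoly (ZMod p) X) = 0 := by
      intro k hk1 hkq
      obtain ⟨s, hs, hsX⟩ := H1 k hk1 hkq
      have h0 : aeval (X ^ k) (minpoly (ZMod p) X) = 0 := by
        apply LinearMap.ext
        intro u
        obtain ⟨u', rfl⟩ := hs u
        rw [← aeval_intertwine X (X ^ k) s hsX, minpoly.aeval]
        simp
      have h1 : aeval X ((minpoly (ZMod p) X).comp (Polynomial.X ^ k)) = 0 := by
        rw [aeval_comp]
        simpa using h0
      obtain ⟨c, hc⟩ := minpoly.dvd (ZMod p) X h1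
      have h2 : aeval (AdjoinRoot.root (minpoly (ZMod p) X))
          ((minpoly (ZMod p) X).comp (Polynomial.X ^ k)) = 0 := by
        rw [hc, map_mul, AdjoinRoot.aeval_eq, AdjoinRoot.mk_self, zero_mul]
      rw [aeval_comp] at h2
      simpa using h2
    have hne : (minpoly (ZMod p) X).map
        (algebraMap (ZMod p) (AdjoinRoot (minpoly (ZMod p) X))) ≠ 0 :=
      (Polynomial.map_ne_zero hirr.ne_zero)
    have hsub : ((Finset.Ico 1 q).image
        (fun k => (AdjoinRoot.root (minpoly (ZMod p) X)) ^ k)).val ⊆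
        ((minpoly (ZMod p) X).map
          (algebraMap (ZMod p) (AdjoinRoot (minpoly (ZMod p) X)))).roots := by
      intro z hz
      rw [Finset.mem_val, Finset.mem_image] at hz
      obtain ⟨k, hk, rfl⟩ := hz
      rw [Finset.mem_Ico] at hk
      rw [mem_roots hne, IsRoot.def, eval_map_algebraMap]
      exact hroot k hk.1 hk.2
    have hcard := card_le_degree_of_subset_roots hsub
    rw [natDegree_map, Finset.card_image_of_injOn, Nat.card_Ico] at hcard
    · exact hcard
    · intro i hi j hj hij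
      rw [Finset.coe_Ico, Set.mem_Ico] at hi hj
      exact hζ.pow_inj hi.2 hj.2 hij

theorem irreducible_cyclotomic_of_orderOf (hpq : p ≠ q)
    (hord : orderOf ((p : ℕ) : ZMod q) = q - 1) : Irreducible (cyclotomic q (ZMod p)) := by
  have hp : p.Prime := Fact.out
  have hq : q.Prime := Fact.out
  have hpn : ¬ p ∣ q := fun h => hpq ((Nat.prime_dvd_prime_iff_eq hp hq).mp h)
  apply ZMod.irreducible_of_dvd_cyclotomic_of_natDegree hpn dvd_rfl
  rw [natDegree_cyclotomic, Nat.totient_prime hq, ← hord, ← orderOf_units, ZMod.coe_unitOfCoprime]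

end Main

/-- two finite vector spaces of the same cardinality are isomorphic, by an isomorphism taking a
given nonzero vector to a given nonzero vector -/
theorem exists_linearEquiv_apply_eq {K M₁ M₂ : Type*} [Field K] [AddCommGroup M₁] [Module K M₁]
    [AddCommGroup M₂] [Module K M₂] [Finite M₁] [Finite M₂] (hcard : Nat.card M₁ = Nat.card M₂)
    (v : M₁) (w : M₂) (hv : v ≠ 0) (hw : w ≠ 0) : ∃ e : M₁ ≃ₗ[K] M₂, e v = w := by
  haveI : Finite K := Finite.of_injective (fun c : K => c • v) (smul_left_injective K hv)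
  have hK : 1 < Nat.card K := Finite.one_lt_card
  have hfin : Module.finrank K M₁ = Module.finrank K M₂ := by
    have h1 := Module.natCard_eq_pow_finrank (K := K) (V := M₁)
    have h2 := Module.natCard_eq_pow_finrank (K := K) (V := M₂)
    rw [h1, h2] at hcard
    exact Nat.pow_right_injective hK hcard
  obtain ⟨C₁, hC₁⟩ := Submodule.exists_isCompl (K ∙ v)
  obtain ⟨C₂, hC₂⟩ := Submodule.exists_isCompl (K ∙ w)
  have hf₁ := Submodule.finrank_add_eq_of_isCompl hC₁
  have hf₂ := Submodule.finrank_add_eq_of_isCompl hC₂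
  rw [finrank_span_singleton hv] at hf₁
  rw [finrank_span_singleton hw] at hf₂
  have hC : Module.finrank K C₁ = Module.finrank K C₂ := by omega
  let eC : C₁ ≃ₗ[K] C₂ := LinearEquiv.ofFinrankEq _ _ hC
  let e1 : (K ∙ v) ≃ₗ[K] (K ∙ w) :=
    (LinearEquiv.toSpanNonzeroSingleton K M₁ v hv).symm.trans
      (LinearEquiv.toSpanNonzeroSingleton K M₂ w hw)
  refine ⟨(Submodule.prodEquivOfIsCompl _ _ hC₁).symm.trans
    ((e1.prodCongr eC).trans (Submodule.prodEquivOfIsCompl _ _ hC₂)), ?_⟩
  have h1 : (Submodule.prodEquivOfIsCompl _ _ hC₁).symm v =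
      (⟨v, Submodule.mem_span_singleton_self v⟩, 0) :=
    Submodule.prodEquivOfIsCompl_symm_apply_left _ _ hC₁ ⟨v, Submodule.mem_span_singleton_self v⟩
  have h2 : e1 ⟨v, Submodule.mem_span_singleton_self v⟩ =
      ⟨w, Submodule.mem_span_singleton_self w⟩ := by
    simp only [e1, LinearEquiv.trans_apply]
    have : (LinearEquiv.toSpanNonzeroSingleton K M₁ v hv).symm
        ⟨v, Submodule.mem_span_singleton_self v⟩ = 1 := by
      rw [LinearEquiv.symm_apply_eq]
      exact (LinearEquiv.toSpanNonzeroSingleton_one K M₁ v hv).symm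
    rw [this]
    exact LinearEquiv.toSpanNonzeroSingleton_one K M₂ w hw
  simp only [LinearEquiv.trans_apply, h1, LinearEquiv.prodCongr_apply, h2, map_zero]
  simp

lemma isTorsionBySet_aeval {F V : Type*} [Field F] [AddCommGroup V] [Module F V]
    (X : Module.End F V) (Φ : F[X]) (hX : aeval X Φ = 0) :
    Module.IsTorsionBySet F[X] (Module.AEval' X) (Ideal.span {Φ} : Ideal F[X]) := by
  rw [Module.isTorsionBySet_span_singleton_iff]
  intro x
  obtain ⟨u, rfl⟩ := (Module.AEval'.of X).surjective x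
  rw [← Module.AEval.of_aeval_smul, hX]
  simp

theorem exists_intertwiner {F V : Type*} [Field F] [AddCommGroup V] [Module F V] [Finite V]
    (Φ : F[X]) (hirr : Irreducible Φ)
    (X X' : Module.End F V) (hX : aeval X Φ = 0) (hX' : aeval X' Φ = 0)
    (v w : V) (hv : v ≠ 0) (hw : w ≠ 0) :
    ∃ s : V ≃+ V, (∀ u, s (X u) = X' (s u)) ∧ s v = w := by
  haveI : (Ideal.span {Φ} : Ideal F[X]).IsMaximal := PrincipalIdealRing.isMaximal_of_irreducible hirr
  letI : Field (F[X] ⧸ (Ideal.span {Φ} : Ideal F[X])) := Ideal.Quotient.field _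
  letI m₁ : Module (F[X] ⧸ (Ideal.span {Φ} : Ideal F[X])) (Module.AEval' X) :=
    (isTorsionBySet_aeval X Φ hX).module
  letI m₂ : Module (F[X] ⧸ (Ideal.span {Φ} : Ideal F[X])) (Module.AEval' X') :=
    (isTorsionBySet_aeval X' Φ hX').module
  haveI : Finite (Module.AEval' X) := Finite.of_equiv V (Module.AEval'.of X).toEquiv
  haveI : Finite (Module.AEval' X') := Finite.of_equiv V (Module.AEval'.of X').toEquiv
  have hcard : Nat.card (Module.AEval' X) = Nat.card (Module.AEval' X') :=
    (Nat.card_congr (Module.AEval'.of X).toEquiv).symm.trans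
      (Nat.card_congr (Module.AEval'.of X').toEquiv)
  obtain ⟨e, he⟩ := exists_linearEquiv_apply_eq (K := F[X] ⧸ (Ideal.span {Φ} : Ideal F[X])) hcard
    (Module.AEval'.of X v) (Module.AEval'.of X' w)
    (by simpa using hv) (by simpa using hw)
  refine ⟨(Module.AEval'.of X).toAddEquiv.trans
    (e.toAddEquiv.trans (Module.AEval'.of X').symm.toAddEquiv), ?_, ?_⟩
  · intro u
    change (Module.AEval'.of X').symm (e (Module.AEval'.of X (X u))) =
      X' ((Module.AEval'.of X').symm (e (Module.AEval'.of X u)))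
    rw [← Module.AEval'.X_smul_of, ← Module.AEval'.of_symm_X_smul]
    congr 1
    exact e.map_smul (Ideal.Quotient.mk (Ideal.span {Φ} : Ideal F[X]) Polynomial.X)
      (Module.AEval'.of X u)
  · change (Module.AEval'.of X').symm (e (Module.AEval'.of X v)) = w
    rw [he]
    simp


section Mult

variable {A : Type*} [CommGroup A] {p : ℕ}

/-- the `ZMod p`-module structure on an abelian group of exponent `p`, written additively -/
@[reducible] def zmodModuleOfExp (hA : ∀ a : A, a ^ p = 1) : Module (ZMod p) (Additive A) :=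
  AddCommGroup.zmodModule (n := p) (fun x => by
    change Additive.ofMul ((Additive.toMul x) ^ p) = 0
    rw [hA]; rfl)

/-- the linear map attached to an endomorphism -/
def linOf (hA : ∀ a : A, a ^ p = 1) (X : A →* A) :
    letI := zmodModuleOfExp hA
    Module.End (ZMod p) (Additive A) :=
  letI := zmodModuleOfExp hA
  (MonoidHom.toAdditive X).toZModLinearMap p

lemma linOf_apply (hA : ∀ a : A, a ^ p = 1) (X : A →* A) (a : A) :
    letI := zmodModuleOfExp hA
    linOf hA X (Additive.ofMul a) = Additive.ofMul (X a) := rfl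

lemma linOf_pow_apply (hA : ∀ a : A, a ^ p = 1) (X : A →* A) (k : ℕ) (a : A) :
    letI := zmodModuleOfExp hA
    (linOf hA X ^ k) (Additive.ofMul a) = Additive.ofMul (X^[k] a) := by
  letI := zmodModuleOfExp hA
  induction k generalizing a with
  | zero => simp
  | succ k ih =>
    rw [pow_succ, Module.End.mul_apply, linOf_apply, ih, Function.iterate_succ_apply]

lemma aeval_linOf_cyclotomic (hA : ∀ a : A, a ^ p = 1) (X : A →* A) (q : ℕ) [Fact q.Prime]
    (hX : ∀ a, ∏ i ∈ Finset.range q, X^[i] a = 1) :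
    letI := zmodModuleOfExp hA
    aeval (linOf hA X) (cyclotomic q (ZMod p)) = 0 := by
  letI := zmodModuleOfExp hA
  apply LinearMap.ext
  intro u
  obtain ⟨a, rfl⟩ := Additive.ofMul.surjective u
  rw [cyclotomic_prime, map_sum, LinearMap.sum_apply]
  simp only [map_pow, aeval_X, linOf_pow_apply]
  rw [← ofMul_prod, hX]
  rfl

theorem exists_mulEquiv_intertwiner [Finite A] {q : ℕ} [Fact p.Prime] [Fact q.Prime] (hpq : p ≠ q)
    (hA : ∀ a : A, a ^ p = 1) (hord : orderOf ((p : ℕ) : ZMod q) = q - 1) (X X' : A →* A)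
    (hX : ∀ a, ∏ i ∈ Finset.range q, X^[i] a = 1)
    (hX' : ∀ a, ∏ i ∈ Finset.range q, X'^[i] a = 1) (v w : A) (hv : v ≠ 1) (hw : w ≠ 1) :
    ∃ s : A ≃* A, (∀ a, s (X a) = X' (s a)) ∧ s v = w := by
  letI := zmodModuleOfExp hA
  obtain ⟨s, hs, hsv⟩ := exists_intertwiner (cyclotomic q (ZMod p))
    (irreducible_cyclotomic_of_orderOf hpq hord) (linOf hA X) (linOf hA X')
    (aeval_linOf_cyclotomic hA X q hX) (aeval_linOf_cyclotomic hA X' q hX')
    (Additive.ofMul v) (Additive.ofMul w) (by simpa using hv) (by simpa using hw)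
  refine ⟨MulEquiv.toAdditive.symm s, ?_, ?_⟩
  · intro a
    exact congr_arg Additive.toMul (hs (Additive.ofMul a))
  · exact congr_arg Additive.toMul hsv

theorem orderOf_eq_of_transitive [Finite A] [Nontrivial A] {q : ℕ} [Fact p.Prime] [Fact q.Prime]
    (hpq : p ≠ q) (hA : ∀ a : A, a ^ p = 1) (X : A →* A)
    (hX : ∀ a, ∏ i ∈ Finset.range q, X^[i] a = 1)
    (H1 : ∀ k : ℕ, 1 ≤ k → k < q → ∃ s : A ≃* A, ∀ a, s (X a) = X^[k] (s a))
    (H2 : ∀ v w : A, v ≠ 1 → w ≠ 1 → ∃ (s : A ≃* A) (k : ℕ),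
      (∀ a, s (X a) = X^[k] (s a)) ∧ s v = w) :
    orderOf ((p : ℕ) : ZMod q) = q - 1 := by
  letI := zmodModuleOfExp hA
  have hΦ := aeval_linOf_cyclotomic hA X q hX
  have hXq : linOf hA X ^ q = 1 := by
    have h1 : ∑ i ∈ Finset.range q, linOf hA X ^ i = 0 := by
      rw [cyclotomic_prime, map_sum] at hΦ
      simpa using hΦ
    have h2 := geom_sum_mul (linOf hA X) q
    rw [h1, zero_mul] at h2
    exact (sub_eq_zero.mp h2.symm)
  have key : ∀ (s : A ≃* A) (k : ℕ), (∀ a, s (X a) = X^[k] (s a)) →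
      ∀ u, (linOf hA s.toMonoidHom) (linOf hA X u) =
        (linOf hA X ^ k) ((linOf hA s.toMonoidHom) u) := by
    intro s k hs u
    obtain ⟨a, rfl⟩ := Additive.ofMul.surjective u
    have e : (linOf hA s.toMonoidHom) (Additive.ofMul a) =
        Additive.ofMul (s a) := rfl
    rw [e, linOf_pow_apply, ← hs]
    rfl
  apply orderOf_eq_of_irreducible_minpoly hpq (linOf hA X) hΦ
  · apply irreducible_minpoly_of_transitive hpq (linOf hA X) hXq
    intro v w hv hw
    obtain ⟨s, k, hs, hsv⟩ := H2 (Additive.toMul v) (Additive.toMul w)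
      (by simpa using hv) (by simpa using hw)
    refine ⟨linOf hA s.toMonoidHom, k, ?_, key s k hs, ?_⟩
    · intro a b hab
      exact congr_arg Additive.ofMul (s.injective (congr_arg Additive.toMul hab))
    · exact congr_arg Additive.ofMul hsv
  · intro k hk1 hkq
    obtain ⟨s, hs⟩ := H1 k hk1 hkq
    refine ⟨linOf hA s.toMonoidHom, ?_, key s k hs⟩
    intro b
    obtain ⟨a, ha⟩ := s.surjective (Additive.toMul b)
    exact ⟨Additive.ofMul a, congr_arg Additive.ofMul ha⟩

end Mult

end Cfsg.Agent.Lib.Helper68
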