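import Mathlib
import Cfsg.Agent.Lib.Helper47.PCore

set_option autoImplicit false
open Cfsg Subgroup

namespace Cfsg.Agent.Lib.Helper68

open Cfsg.Agent.Lib.Helper47

variable {G : Type*} [Group G] {p : ℕ}

/-- In a finite group satisfying the normalizer condition every subgroup is subnormal. -/
theorem isSubnormal_of_normalizerCondition [Finite G] (hnc : NormalizerCondition G)
    (H : Subgroup G) : H.IsSubnormal := by
  induction H using WellFoundedGT.induction with
  | ind H ih =>
    by_cases hH : H = ⊤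
    · subst hH; exact IsSubnormal.top
    · have hlt := hnc H (lt_top_iff_ne_top.mpr hH)
      exact IsSubnormal.step H _ le_normalizer (ih _ hlt) normal_in_normalizer

/-- Every subgroup of a finite `p`-group is subnormal. -/
theorem isSubnormal_of_isPGroup [Finite G] [Fact p.Prime] (hG : IsPGroup p G) (H : Subgroup G) :
    H.IsSubnormal := by
  have : Group.IsNilpotent G := hG.isNilpotent
  exact isSubnormal_of_normalizerCondition Group.normalizerCondition_of_isNilpotent H

/-- normalizers grow in finite `p`-groups (relative form). -/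
theorem lt_inf_normalizer' [Finite G] [hp : Fact p.Prime] {T P : Subgroup G} (hP : IsPGroup p P)
    (hlt : T < P) : T < P ⊓ normalizer (T : Set G) := by
  have : Group.IsNilpotent ↥P := hP.isNilpotent
  have hnc : NormalizerCondition ↥P := Group.normalizerCondition_of_isNilpotent
  have h1 : T.subgroupOf P < ⊤ := by
    rw [lt_top_iff_ne_top]
    intro h
    rw [subgroupOf_eq_top] at h
    exact absurd h (not_le_of_gt hlt)
  have h2 := hnc _ h1
  obtain ⟨x, hx, hxn⟩ := SetLike.exists_of_lt h2
  refine lt_of_le_of_ne (le_inf hlt.le le_normalizer) ?_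
  intro heq
  apply hxn
  rw [mem_subgroupOf, heq]
  refine mem_inf.mpr ⟨x.2, ?_⟩
  apply mem_normalizer_of_cj_le
  rintro _ ⟨t, ht, rfl⟩
  have := (mem_normalizer_iff.mp hx ⟨t, hlt.le ht⟩).mp (by simpa [mem_subgroupOf] using ht)
  simpa [mem_subgroupOf, MulAut.conj_apply] using this

/-- A subgroup `H` contained in a `p`-subgroup `R` normalized by `K ≥ H` is subnormal in `K`. -/
theorem isSubnormal_subgroupOf_of_le_pGroup [Finite G] [Fact p.Prime] {H R K : Subgroup G}
    (hR : IsPGroup p R) (hHR : H ≤ R) (hKR : K ≤ normalizer (R : Set G)) :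
    (H.subgroupOf K).IsSubnormal := by
  have hn : (R.subgroupOf K).Normal := normal_subgroupOf_of_le_normalizer hKR
  have hle : H.subgroupOf K ≤ R.subgroupOf K := comap_mono hHR
  apply IsSubnormal.trans hle _ hn.isSubnormal
  apply isSubnormal_of_isPGroup (p := p)
  exact hR.comap_subtype

/-- Characterization of the subnormalizer of a `p`-subgroup `H`: `H` is subnormal in `⟨H, g⟩` iff
`H` lies in a `p`-subgroup normalized by `g`. -/
theorem subnormalizer_iff [Finite G] [Fact p.Prime] {H : Subgroup G} (hH : IsPGroup p H) (g : G) :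
    (H.subgroupOf (H ⊔ zpowers g)).IsSubnormal ↔
      ∃ R : Subgroup G, IsPGroup p R ∧ H ≤ R ∧ g ∈ normalizer (R : Set G) := by
  constructor
  · intro hsn
    refine ⟨pCoreOf p (H ⊔ zpowers g), pCoreOf_isPGroup _, ?_, ?_⟩
    · have h1 : H.subgroupOf (H ⊔ zpowers g) ≤ pCore p ↥(H ⊔ zpowers g) :=
        Cfsg.Agent.Lib.Helper47.IsSubnormal.le_pCore hsn hH.comap_subtype
      have h2 := map_mono (f := (H ⊔ zpowers g).subtype) h1
      rwa [map_subgroupOf_eq_of_le le_sup_left] at h2
    · exact le_normalizer_pCoreOf _ (le_sup_right (a := H) (mem_zpowers g))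
  · rintro ⟨R, hR, hHR, hg⟩
    apply isSubnormal_subgroupOf_of_le_pGroup hR hHR
    exact sup_le (hHR.trans le_normalizer) (zpowers_le.mpr hg)

/-- Any `p`-subgroup `R₀` normalized by `g` lies in a `p`-radical subgroup normalized by `g`. -/
theorem exists_radical [Finite G] {R₀ : Subgroup G} (hR₀ : IsPGroup p R₀) {g : G}
    (hg : g ∈ normalizer (R₀ : Set G)) :
    ∃ R : Subgroup G, R₀ ≤ R ∧ pCoreOf p (normalizer (R : Set G)) = R ∧
      g ∈ normalizer (R : Set G) := by
  have hfin : {R : Subgroup G | IsPGroup p R ∧ g ∈ normalizer (R : Set G)}.Finite := Set.toFinite _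
  obtain ⟨R, hle, ⟨hRp, hRg⟩, hmax⟩ := hfin.exists_le_maximal (a := R₀) ⟨hR₀, hg⟩
  refine ⟨R, hle, ?_, hRg⟩
  have h1 : R ≤ pCoreOf p (normalizer (R : Set G)) := le_pCoreOf le_normalizer le_rfl hRp
  exact le_antisymm (hmax ⟨pCoreOf_isPGroup _, le_normalizer_pCoreOf _ hRg⟩ h1) h1

/-- the intersection of the Sylow `p`-subgroups containing `H`. -/
def sylowInter (p : ℕ) (H : Subgroup G) : Subgroup G :=
  sInf {K : Subgroup G | ∃ Q : Sylow p G, H ≤ (Q : Subgroup G) ∧ K = (Q : Subgroup G)}

theorem le_sylowInter (H : Subgroup G) : H ≤ sylowInter p H := by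
  apply le_sInf
  rintro _ ⟨Q, hQ, rfl⟩
  exact hQ

theorem sylowInter_le {H : Subgroup G} (Q : Sylow p G) (hQ : H ≤ Q) : sylowInter p H ≤ Q :=
  sInf_le ⟨Q, hQ, rfl⟩

theorem sylowInter_mono {H R : Subgroup G} (h : H ≤ R) : sylowInter p H ≤ sylowInter p R := by
  apply sInf_le_sInf
  rintro _ ⟨Q, hQ, rfl⟩
  exact ⟨Q, h.trans hQ, rfl⟩

theorem sylowInter_isPGroup {H : Subgroup G} (hH : IsPGroup p H) : IsPGroup p (sylowInter p H) := by
  obtain ⟨Q, hQ⟩ := hH.exists_le_sylow
  exact Q.isPGroup'.to_le (sylowInter_le Q hQ)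

theorem normalizer_le_normalizer_sylowInter (R : Subgroup G) :
    normalizer (R : Set G) ≤ normalizer (sylowInter p R : Set G) := by
  apply le_normalizer_of_cj_le
  intro n hn
  apply le_sInf
  rintro _ ⟨Q, hQ, rfl⟩
  rw [cj_le_iff]
  obtain ⟨Q', hQ'⟩ := exists_sylow_cj Q n⁻¹
  rw [← hQ']
  apply sylowInter_le
  rw [hQ', ← cj_le_iff, cj_eq_self_of_mem_normalizer hn]
  exact hQ

/-- For a `p`-radical subgroup `R`, the intersection of the Sylow subgroups containing it is `R`. -/
theorem sylowInter_eq_of_radical [Finite G] [Fact p.Prime] {R : Subgroup G}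
    (hR : pCoreOf p (normalizer (R : Set G)) = R) : sylowInter p R = R := by
  have hRp : IsPGroup p R := hR ▸ pCoreOf_isPGroup _
  by_contra hne
  have hlt : R < sylowInter p R := lt_of_le_of_ne (le_sylowInter R) (Ne.symm hne)
  have h1 := lt_inf_normalizer' (sylowInter_isPGroup hRp) hlt
  have h2 : sylowInter p R ⊓ normalizer (R : Set G) ≤ pCoreOf p (normalizer (R : Set G)) := by
    apply le_pCoreOf inf_le_right
    · intro n hn
      apply mem_normalizer_of_cj_eq
      rw [cj_inf, cj_eq_self_of_mem hn,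
        cj_eq_self_of_mem_normalizer (normalizer_le_normalizer_sylowInter R hn)]
    · exact (sylowInter_isPGroup hRp).to_inf_left
  rw [hR] at h2
  exact absurd h2 (not_le_of_gt h1)

end Cfsg.Agent.Lib.Helper68
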